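import Groth.Agent.SiteBase.Horseshoe
import Mathlib.CategoryTheory.Abelian.Exact

/-!
# Right derived functors and exact functors
-/

set_option autoImplicit false
set_option linter.style.haveILetI false

universe v v' v'' v''' u u' u'' u'''

open CategoryTheory CategoryTheory.Limits

namespace Groth.Agent.EtModAb

section shift

variable {A : Type u} [Category.{v} A] [Abelian A] [EnoughInjectives A] {B : Type u'} [Category.{v'} B] [Abelian B]
  (F : A ⥤ B) [F.Additive] [PreservesFiniteLimits F] {S : ShortComplex A} (hS : S.ShortExact)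
  (h₂ : ∀ q, IsZero ((F.rightDerived (q + 1)).obj S.X₂))

include hS h₂ in
/-- the first derived functor is a cokernel -/
theorem nonempty_rightDerived_one_iso : Nonempty ((F.rightDerived 1).obj S.X₁ ≅ cokernel (F.map S.g)) := by
  let L := SESResLib.derivedLES F
  haveI : Epi (L.δ S hS 0 1 rfl) := (ShortComplex.exact_iff_epi _ ((h₂ 0).eq_of_tgt _ _)).1 (L.exact₁ S hS 0 1 rfl)
  have hE := L.exact₃ S hS 0 1 rfl
  let e : cokernel ((F.rightDerived 0).map S.g) ≅ (F.rightDerived 1).obj S.X₁ :=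
    (cokernelIsCokernel _).coconePointUniqueUpToIso hE.gIsCokernel
  exact ⟨e.symm ≪≫ cokernel.mapIso _ (F.map S.g) (F.rightDerivedZeroIsoSelf.app S.X₂)
    (F.rightDerivedZeroIsoSelf.app S.X₃) (F.rightDerivedZeroIsoSelf.hom.naturality S.g)⟩

include hS h₂ in
/-- the higher derived functors shift -/
theorem nonempty_rightDerived_succ_iso (q : ℕ) :
    Nonempty ((F.rightDerived (q + 2)).obj S.X₁ ≅ (F.rightDerived (q + 1)).obj S.X₃) := by
  let L := SESResLib.derivedLES F
  haveI : Epi (L.δ S hS (q + 1) (q + 2) rfl) :=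
    (ShortComplex.exact_iff_epi _ ((h₂ (q + 1)).eq_of_tgt _ _)).1 (L.exact₁ S hS (q + 1) (q + 2) rfl)
  haveI : Mono (L.δ S hS (q + 1) (q + 2) rfl) :=
    (ShortComplex.exact_iff_mono _ ((h₂ q).eq_of_src _ _)).1 (L.exact₃ S hS (q + 1) (q + 2) rfl)
  haveI := isIso_of_mono_of_epi (L.δ S hS (q + 1) (q + 2) rfl)
  exact ⟨(asIso (L.δ S hS (q + 1) (q + 2) rfl)).symm⟩

end shift

variable {A : Type u} [Category.{v} A] [Abelian A] [EnoughInjectives A] {B : Type u'} [Category.{v'} B] [Abelian B]
  {A' : Type u''} [Category.{v''} A'] [Abelian A'] [EnoughInjectives A'] {B' : Type u'''} [Category.{v'''} B'] [Abelian B']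
  (F : A ⥤ B) [F.Additive] [PreservesFiniteLimits F] (F' : A' ⥤ B') [F'.Additive] [PreservesFiniteLimits F']
  (P : A ⥤ A') [P.Additive] [PreservesFiniteLimits P] [PreservesFiniteColimits P]
  (Φ : B ⥤ B') [Φ.Additive] [PreservesFiniteLimits Φ] [PreservesFiniteColimits Φ] (φ : F ⋙ Φ ≅ P ⋙ F')

include φ in
/-- exact functors compatible with the functors are compatible with the derived ones -/
theorem nonempty_rightDerived_comm (hP : ∀ (I : A) (_ : Injective I) (q : ℕ), IsZero ((F'.rightDerived (q + 1)).obj (P.obj I)))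
    (q : ℕ) (X : A) : Nonempty (Φ.obj ((F.rightDerived q).obj X) ≅ (F'.rightDerived q).obj (P.obj X)) := by
  induction q generalizing X with
  | zero => exact ⟨Φ.mapIso (F.rightDerivedZeroIsoSelf.app X) ≪≫ φ.app X ≪≫ (F'.rightDerivedZeroIsoSelf.app _).symm⟩
  | succ q ih =>
    let S := ShortComplex.mk (Injective.ι X) (cokernel.π _) (cokernel.condition (Injective.ι X))
    have hS : S.ShortExact := { exact := ShortComplex.exact_of_g_is_cokernel _ (cokernelIsCokernel _) }
    have hI : Injective S.X₂ := inferInstanceAs (Injective (Injective.under X))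
    have hS' := hS.map_of_exact P
    have h₂ : ∀ m, IsZero ((F.rightDerived (m + 1)).obj S.X₂) := fun m =>
      haveI := hI
      F.isZero_rightDerived_obj_injective_succ m S.X₂
    have h₂' : ∀ m, IsZero ((F'.rightDerived (m + 1)).obj (S.map P).X₂) := fun m => hP _ hI m
    obtain _ | q := q
    · obtain ⟨e⟩ := nonempty_rightDerived_one_iso F hS h₂
      obtain ⟨e'⟩ := nonempty_rightDerived_one_iso F' hS' h₂'
      exact ⟨Φ.mapIso e ≪≫ PreservesCokernel.iso Φ _ ≪≫
        cokernel.mapIso _ _ (φ.app S.X₂) (φ.app S.X₃) (φ.hom.naturality S.g) ≪≫ e'.symm⟩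
    · obtain ⟨e⟩ := nonempty_rightDerived_succ_iso F hS h₂ q
      obtain ⟨e'⟩ := nonempty_rightDerived_succ_iso F' hS' h₂' q
      obtain ⟨e''⟩ := ih S.X₃
      exact ⟨Φ.mapIso e ≪≫ e'' ≪≫ e'.symm⟩

end Groth.Agent.EtModAb
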