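import Groth.Agent.EtModAb.Basic
import Groth.Agent.EtModAb.Shift
import Groth.Agent.EtBC.Killed
import Groth.Agent.EtBC.TorsionAcyclic
import Groth.Agent.EtBC.EtaleBC
import Groth.Agent.TriCat.AcyclicObj
import Groth.Agent.CdFin.Proper
import Groth.Agent.S3389

/-!
# Higher direct images of sheaves of modules and of their underlying abelian sheaves
-/

set_option autoImplicit false
set_option linter.style.haveILetI false
set_option backward.isDefEq.respectTransparency.types false
universe u

open CategoryTheory CategoryTheory.Limits AlgebraicGeometry Opposite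

namespace Groth.Agent.EtModAb

open Groth.Agent.TriCat

variable (Λ : Type (u + 1)) [CommRing Λ] {X S : Scheme.{u}} (f : X ⟶ S)

/-- direct images commute with the underlying abelian sheaves -/
noncomputable def pushForgetIso :
    EtModW.push Λ f ⋙ EtModD.forgetToAb Λ S ≅ EtModD.forgetToAb Λ X ⋙ EtCoh.push f :=
  Iso.refl _

instance push_preservesFiniteLimits : PreservesFiniteLimits (EtModW.push Λ f) :=
  haveI : PreservesLimitsOfSize.{0, 0} (EtModW.push Λ f) :=
    (EtSix.pullPushModAdj Λ f).rightAdjoint_preservesLimits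
  PreservesLimitsOfSize.preservesFiniteLimits _

instance abPush_preservesFiniteLimits : PreservesFiniteLimits (EtCoh.push f) :=
  haveI : PreservesLimitsOfSize.{0, 0} (EtCoh.push f) :=
    (EtCoh.pullPushAdj f).rightAdjoint_preservesLimits
  PreservesLimitsOfSize.preservesFiniteLimits _

/-- injective sheaves of modules have acyclic underlying sheaves -/
theorem isZero_rpush_forgetToAb_injective (I : EtModW.Mod Λ X) [Injective I] (q : ℕ) :
    IsZero (((EtCoh.push f).rightDerived (q + 1)).obj ((EtModD.forgetToAb Λ X).obj I)) :=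
  EtBC.isZero_rpush_of_isCechAcyclic f q _ (EtLC12.FlasqueAcyclic.isCechAcyclic_forgetToAb Λ I)

/-- higher direct images commute with the underlying abelian sheaves -/
theorem nonempty_forget_rightDerived (q : ℕ) (M : EtModW.Mod Λ X) :
    Nonempty ((EtModD.forgetToAb Λ S).obj (((EtModW.push Λ f).rightDerived q).obj M) ≅
      ((EtCoh.push f).rightDerived q).obj ((EtModD.forgetToAb Λ X).obj M)) :=
  nonempty_rightDerived_comm (EtModW.push Λ f) (EtCoh.push f) (EtModD.forgetToAb Λ X)
    (EtModD.forgetToAb Λ S) (pushForgetIso Λ f)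
    (fun I hI q => haveI := hI; isZero_rpush_forgetToAb_injective Λ f I q) q M

/-- zero objects are detected on underlying sheaves -/
theorem isZero_of_forgetToAb {M : EtModW.Mod Λ X} (h : IsZero ((EtModD.forgetToAb Λ X).obj M)) : IsZero M := by
  rw [IsZero.iff_id_eq_zero] at h ⊢
  exact (EtModD.forgetToAb Λ X).map_injective
    (((EtModD.forgetToAb Λ X).map_id _).trans (h.trans ((EtModD.forgetToAb Λ X).map_zero _ _).symm))

/-- acyclicity is tested on underlying sheaves -/
theorem isRightAcyclic_iff (M : EtModW.Mod Λ X) :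
    IsRightAcyclic (EtModW.push Λ f) M ↔ IsRightAcyclic (EtCoh.push f) ((EtModD.forgetToAb Λ X).obj M) := by
  refine ⟨fun h i hi => ?_, fun h i hi => isZero_of_forgetToAb Λ ?_⟩
  · obtain ⟨e⟩ := nonempty_forget_rightDerived Λ f i M
    exact ((EtModD.forgetToAb Λ S).map_isZero (h i hi)).of_iso e.symm
  · obtain ⟨e⟩ := nonempty_forget_rightDerived Λ f i M
    exact (h i hi).of_iso e

/-- sums of injective sheaves of modules are acyclic -/
theorem isRightAcyclic_sigma [QuasiCompact f] [QuasiSeparated f] {ι : Type (u + 1)} (I : ι → EtModW.Mod Λ X)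
    [∀ i, Injective (I i)] : IsRightAcyclic (EtModW.push Λ f) (∐ I) := by
  refine (isRightAcyclic_iff Λ f _).2 fun i hi => ?_
  obtain ⟨q, rfl⟩ := Nat.exists_eq_succ_of_ne_zero hi.ne'
  haveI := IsGrothendieckAbelian.hasColimits (EtModW.Mod Λ X)
  let F : Finset (Discrete ι) ⥤ EtCoh.Ab X :=
    CoproductsFromFiniteFiltered.liftToFinsetObj (Discrete.functor I) ⋙ EtModD.forgetToAb Λ X
  have hs : ∀ s, EtLC12.FlasqueAcyclic.IsCechAcyclic (F.obj s) := fun s => by
    haveI : ∀ x : s, Injective ((Discrete.functor I).obj x.val) := fun x =>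
      inferInstanceAs (Injective (I x.val.as))
    haveI : HasFiniteBiproducts (EtModW.Mod Λ X) := Abelian.hasFiniteBiproducts
    haveI : Injective (∐ fun x : s => (Discrete.functor I).obj x.val) :=
      Injective.of_iso (biproduct.isoCoproduct _) inferInstance
    haveI : Injective ((CoproductsFromFiniteFiltered.liftToFinsetObj (Discrete.functor I)).obj s) :=
      ‹Injective (∐ fun x : s => (Discrete.functor I).obj x.val)›
    exact EtLC12.FlasqueAcyclic.isCechAcyclic_forgetToAb Λ
      ((CoproductsFromFiniteFiltered.liftToFinsetObj (Discrete.functor I)).obj s)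
  have hF : EtLC12.QcqsAcyclic.IsCechAcyclic (colimit F) := by
    refine EtLC12.QcqsAcyclic.isCechAcyclic_colimit F fun s => ?_
    intro U _ κ _ Uf _ _ p
    exact hs s U κ Uf p
  refine (EtBC.isZero_rpush_of_qcqsAcyclic f q _ hF).of_iso
    (((EtCoh.push f).rightDerived (q + 1)).mapIso ?_)
  exact (isColimitOfPreserves (EtModD.forgetToAb Λ X)
    (CoproductsFromFiniteFiltered.isColimitFiniteSubproductsCocone I)).coconePointUniqueUpToIso
    (colimit.isColimit _)

end Groth.Agent.EtModAb
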