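import Groth.Agent.EtModAb.Pull
import Groth.Prelude.Def_EtBCD
import Groth.Prelude.Def_SixF1

/-!
# Degree zero base change for sheaves of modules
-/

set_option autoImplicit false
set_option linter.style.haveILetI false
set_option backward.isDefEq.respectTransparency.types false
set_option maxHeartbeats 1000000
universe u

open CategoryTheory CategoryTheory.Limits AlgebraicGeometry Opposite

namespace Groth.Agent.EtModAb

variable (Λ : Type (u + 1)) [CommRing Λ]

theorem forget_pushComp {X Y Z : Scheme.{u}} (f : X ⟶ Y) (g : Z ⟶ X) (M : EtModW.Mod Λ Z) :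
    (EtModD.forgetToAb Λ Y).map ((EtSix.pushModComp Λ f g).hom.app M) =
      (EtCoh.pushComp f g).hom.app ((EtModD.forgetToAb Λ Z).obj M) := rfl

theorem forget_pushComp_inv {X Y Z : Scheme.{u}} (f : X ⟶ Y) (g : Z ⟶ X) (M : EtModW.Mod Λ Z) :
    (EtModD.forgetToAb Λ Y).map ((EtSix.pushModComp Λ f g).inv.app M) =
      (EtCoh.pushComp f g).inv.app ((EtModD.forgetToAb Λ Z).obj M) := rfl

theorem forget_pushCongr {X Y : Scheme.{u}} {f f' : X ⟶ Y} (h : f = f') (M : EtModW.Mod Λ X) :
    (EtModD.forgetToAb Λ Y).map ((EtSix.pushModCongr Λ h).hom.app M) =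
      (EtCoh.pushCongr h).hom.app ((EtModD.forgetToAb Λ X).obj M) := rfl

variable {X S X' S' : Scheme.{u}} (f : X ⟶ S) (g : S' ⟶ S) (f' : X' ⟶ S') (g' : X' ⟶ X) (w : g' ≫ f = f' ≫ g)

/-- base change maps and the underlying abelian sheaves -/
theorem forget_baseChange0Mod (M : EtModW.Mod Λ X) :
    (pullForget Λ g).app ((EtModW.push Λ f).obj M) ≫
        (EtModD.forgetToAb Λ S').map (EtSix.baseChange0Mod Λ f g f' g' w M) =
      EtCoh.baseChange0 f g f' g' w ((EtModD.forgetToAb Λ X).obj M) ≫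
        (EtCoh.push f').map ((pullForget Λ g').app M) := by
  let U := EtModD.forgetToAb Λ X
  let N := (EtModW.pull Λ g').obj M
  let β := (pullForget Λ g').app M
  apply ((EtCoh.pullPushAdj g).homEquiv _ _).injective
  refine ((EtCoh.pullPushAdj g).homEquiv_naturality_right _ _).trans (Eq.trans ?_
    ((EtCoh.pullPushAdj g).homEquiv_naturality_right _ _).symm)
  have e1 : (EtCoh.pullPushAdj g).homEquiv _ _ ((pullForget Λ g).app ((EtModW.push Λ f).obj M)) =
      (EtModD.forgetToAb Λ S).map ((EtSix.pullPushModAdj Λ g).unit.app ((EtModW.push Λ f).obj M)) :=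
    Equiv.apply_symm_apply _ _
  have e2 : (EtCoh.pullPushAdj g).homEquiv _ _ (EtCoh.baseChange0 f g f' g' w (U.obj M)) =
      (EtCoh.push f).map ((EtCoh.pullPushAdj g').unit.app (U.obj M)) ≫
        (EtCoh.pushComp f g').hom.app _ ≫ (EtCoh.pushCongr w).hom.app _ ≫ (EtCoh.pushComp g f').inv.app _ :=
    Equiv.apply_symm_apply _ _
  refine (congrArg (· ≫ _) e1).trans (Eq.trans ?_ (congrArg (· ≫ _) e2).symm)
  have e3 : (EtSix.pullPushModAdj Λ g).unit.app _ ≫ (EtModW.push Λ g).map (EtSix.baseChange0Mod Λ f g f' g' w M) =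
      (EtSix.pushToPushPullMod Λ f g f' g' w).app M :=
    ((EtSix.pullPushModAdj Λ g).homEquiv_unit _ _ _).symm.trans (Equiv.apply_symm_apply _ _)
  refine ((EtModD.forgetToAb Λ S).map_comp _ _).symm.trans ((congrArg (EtModD.forgetToAb Λ S).map e3).trans ?_)
  have e4 : (EtSix.pushToPushPullMod Λ f g f' g' w).app M =
      (EtModW.push Λ f).map ((EtSix.pullPushModAdj Λ g').unit.app M) ≫ (EtSix.pushModComp Λ f g').hom.app N ≫
        (EtSix.pushModCongr Λ w).hom.app N ≫ (EtSix.pushModComp Λ g f').inv.app N := by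
    simp [EtSix.pushToPushPullMod, N]
  rw [e4]
  have n1 := (EtCoh.pushComp f g').hom.naturality β
  have n2 := (EtCoh.pushCongr w).hom.naturality β
  have n3 := (EtCoh.pushComp g f').inv.naturality β
  have e5 : (EtCoh.push f).map ((EtCoh.pullPushAdj g').unit.app (U.obj M)) ≫
      (EtCoh.push f).map ((EtCoh.push g').map β) =
      (EtModD.forgetToAb Λ S).map ((EtModW.push Λ f).map ((EtSix.pullPushModAdj Λ g').unit.app M)) :=
    ((EtCoh.push f).map_comp _ _).symm.trans (congrArg (EtCoh.push f).map (unit_pullForget Λ g' M))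
  simp only [Functor.map_comp]
  refine (congrArg₂ (· ≫ ·) e5.symm rfl).trans ?_
  refine (Category.assoc _ _ _).trans ((congrArg (_ ≫ ·) ?_).trans
    ((congrArg (_ ≫ ·) ((Category.assoc _ _ _).trans (congrArg (_ ≫ ·) (Category.assoc _ _ _))).symm).trans
      (Category.assoc _ _ _).symm))
  refine ((Category.assoc _ _ _).symm.trans (congrArg (· ≫ _) n1)).trans ?_
  refine (Category.assoc _ _ _).trans (congrArg (_ ≫ ·) ?_)
  refine ((Category.assoc _ _ _).symm.trans (congrArg (· ≫ _) n2)).trans ?_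
  exact (Category.assoc _ _ _).trans (congrArg (_ ≫ ·) n3)

/-- base change for modules follows from base change for abelian sheaves -/
theorem isIso_baseChange0Mod (M : EtModW.Mod Λ X)
    (h0 : IsIso (EtCoh.baseChange0 f g f' g' w ((EtModD.forgetToAb Λ X).obj M))) :
    IsIso (EtSix.baseChange0Mod Λ f g f' g' w M) := by
  haveI := isIso_pullForget Λ g' M
  haveI := isIso_pullForget Λ g ((EtModW.push Λ f).obj M)
  haveI : IsIso ((pullForget Λ g).app ((EtModW.push Λ f).obj M) ≫
      (EtModD.forgetToAb Λ S').map (EtSix.baseChange0Mod Λ f g f' g' w M)) := by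
    rw [forget_baseChange0Mod]
    exact IsIso.comp_isIso' h0 (Functor.map_isIso _ _)
  haveI := IsIso.of_isIso_comp_left ((pullForget Λ g).app ((EtModW.push Λ f).obj M))
    ((EtModD.forgetToAb Λ S').map (EtSix.baseChange0Mod Λ f g f' g' w M))
  exact isIso_of_reflects_iso _ (EtModD.forgetToAb Λ S')

end Groth.Agent.EtModAb
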