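import Groth.Prelude.Def_EtModD2
import Mathlib.CategoryTheory.Sites.PreservesSheafification
import Mathlib.CategoryTheory.Sites.EpiMono
import Mathlib.CategoryTheory.Functor.KanExtension.Pointwise
import Mathlib.CategoryTheory.Sites.Pullback

/-!
# Sheaves of modules and their underlying abelian sheaves on the small étale site
-/

set_option autoImplicit false
set_option linter.style.haveILetI false
set_option backward.isDefEq.respectTransparency.types false
universe u

open CategoryTheory CategoryTheory.Limits AlgebraicGeometry Opposite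

namespace Groth.Agent.EtModAb

variable (Λ : Type (u + 1)) [CommRing Λ] (X : Scheme.{u})

instance preservesSheafification_ab : X.smallEtaleTopology.PreservesSheafification (forget₂ (ModuleCat.{u + 1} Λ) AddCommGrpCat.{u + 1}) where
  le {P Q} f hf := by
    obtain ⟨h1, h2⟩ := (X.smallEtaleTopology.W_iff_isLocallyBijective f).1 hf
    refine (X.smallEtaleTopology.W_iff_isLocallyBijective _).2 ⟨⟨fun x y h => ?_⟩, ⟨fun t => ?_⟩⟩
    · exact X.smallEtaleTopology.superset_covering (fun V g hg => hg)
        (Presheaf.equalizerSieve_mem X.smallEtaleTopology f x y h)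
    · exact X.smallEtaleTopology.superset_covering (fun V g hg => hg)
        (Presheaf.imageSieve_mem X.smallEtaleTopology f t)

/-- sheafification commutes with the underlying abelian groups -/
noncomputable def sheafifyAbIso : presheafToSheaf X.smallEtaleTopology (ModuleCat.{u + 1} Λ) ⋙
      EtModD.forgetToAb Λ X ≅
    (Functor.whiskeringRight _ _ _).obj (forget₂ (ModuleCat.{u + 1} Λ) AddCommGrpCat.{u + 1}) ⋙ presheafToSheaf X.smallEtaleTopology AddCommGrpCat.{u + 1} :=
  (sheafComposeNatIso X.smallEtaleTopology (forget₂ (ModuleCat.{u + 1} Λ) AddCommGrpCat.{u + 1})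
    (sheafificationAdjunction _ _) (sheafificationAdjunction _ _)).symm

instance additive_forgetToAb : (EtModD.forgetToAb Λ X).Additive where
  map_add := rfl

/-- the forgetful functor preserves colimits -/
instance preservesColimits_forgetToAb :
    PreservesColimitsOfSize.{u + 1, u + 1} (EtModD.forgetToAb Λ X) where
  preservesColimitsOfShape {I} _ := ⟨fun {K} => by
    let adj := sheafificationAdjunction X.smallEtaleTopology (ModuleCat.{u + 1} Λ)
    let G := sheafToPresheaf X.smallEtaleTopology (ModuleCat.{u + 1} Λ)
    let sh := presheafToSheaf X.smallEtaleTopology (ModuleCat.{u + 1} Λ)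
    have : PreservesColimitsOfShape I sh := adj.leftAdjoint_preservesColimits.1
    have : PreservesColimitsOfShape I (presheafToSheaf X.smallEtaleTopology AddCommGrpCat.{u + 1}) :=
      (sheafificationAdjunction X.smallEtaleTopology AddCommGrpCat.{u + 1}).leftAdjoint_preservesColimits.1
    have : PreservesColimitsOfShape I ((Functor.whiskeringRight X.Etaleᵒᵖ _ _).obj (forget₂ (ModuleCat.{u + 1} Λ) AddCommGrpCat.{u + 1}) ⋙
        presheafToSheaf X.smallEtaleTopology AddCommGrpCat.{u + 1}) := comp_preservesColimitsOfShape _ _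
    have : PreservesColimitsOfShape I (sh ⋙ EtModD.forgetToAb Λ X) :=
      preservesColimitsOfShape_of_natIso (sheafifyAbIso Λ X).symm
    let L := K ⋙ G
    have : PreservesColimit (L ⋙ sh) (EtModD.forgetToAb Λ X) :=
      preservesColimit_of_preserves_colimit_cocone (isColimitOfPreserves sh (colimit.isColimit L))
        (isColimitOfPreserves (sh ⋙ EtModD.forgetToAb Λ X) (colimit.isColimit L))
    have : IsIso adj.counit := inferInstance
    exact preservesColimit_of_iso_diagram (EtModD.forgetToAb Λ X)
      (K₁ := L ⋙ sh) (Functor.associator K G sh ≪≫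
        Functor.isoWhiskerLeft K (asIso adj.counit) ≪≫ Functor.rightUnitor K)⟩

instance preservesFiniteColimits_forgetToAb : PreservesFiniteColimits (EtModD.forgetToAb Λ X) :=
  PreservesColimitsOfSize.preservesFiniteColimits _

instance preservesFiniteLimits_forgetToAb : PreservesFiniteLimits (EtModD.forgetToAb Λ X) := by
  haveI : PreservesLimitsOfSize.{0, 0} (forget₂ (ModuleCat.{u + 1} Λ) AddCommGrpCat.{u + 1}) := inferInstance
  refine ⟨fun J _ _ => ?_⟩
  haveI : PreservesLimitsOfShape J (EtModD.forgetToAb Λ X ⋙ sheafToPresheaf X.smallEtaleTopology AddCommGrpCat.{u + 1}) :=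
    preservesLimitsOfShape_of_natIso (show sheafToPresheaf X.smallEtaleTopology (ModuleCat.{u + 1} Λ) ⋙
      (Functor.whiskeringRight _ _ _).obj (forget₂ (ModuleCat.{u + 1} Λ) AddCommGrpCat.{u + 1}) ≅
      EtModD.forgetToAb Λ X ⋙ sheafToPresheaf X.smallEtaleTopology AddCommGrpCat.{u + 1} from Iso.refl _)
  exact preservesLimitsOfShape_of_reflects_of_preserves (EtModD.forgetToAb Λ X)
    (sheafToPresheaf X.smallEtaleTopology AddCommGrpCat.{u + 1})

instance faithful_forgetToAb : (EtModD.forgetToAb Λ X).Faithful where
  map_injective {F G} a b h := by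
    ext U x
    exact ConcreteCategory.congr_hom (congr_app ((sheafToPresheaf _ AddCommGrpCat.{u + 1}).congr_map h) U) x

instance reflectsIsomorphisms_forgetToAb : (EtModD.forgetToAb Λ X).ReflectsIsomorphisms :=
  inferInstance

/-- sheaves of modules killed by `n` -/
theorem killedBy_forgetToAb {n : ℕ} (hΛ : (n : Λ) = 0) (M : EtModW.Mod Λ X) :
    EtCoh.KilledBy n ((EtModD.forgetToAb Λ X).obj M) := fun U s => by
  let V : ModuleCat Λ := M.obj.obj (op U)
  have h : ∀ x : V, n • x = 0 := fun x => by
    rw [← Nat.cast_smul_eq_nsmul Λ, hΛ, zero_smul]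
  exact h s

end Groth.Agent.EtModAb
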