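import Groth.Agent.EtModAb.Transpose
import Groth.Prelude.Def_W4c6etmotetsheavesDMod

/-!
# The unbounded base change map for sheaves of modules
-/

set_option autoImplicit false
set_option linter.style.haveILetI false
set_option backward.isDefEq.respectTransparency.types false
set_option maxHeartbeats 1000000
universe u

open CategoryTheory CategoryTheory.Limits AlgebraicGeometry Opposite

attribute [local instance] HasDerivedCategory.standard

namespace Groth.Agent.EtModAb

open Groth.Agent.TriCat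

/-- the unit on the homotopy category is invertible with the unit on complexes -/
theorem isIso_totalUnit {A : Type (u + 1)} [Category.{u} A] [Abelian A] [IsGrothendieckAbelian.{u} A]
    {B : Type (u + 1)} [Category.{u} B] [Abelian B] (G : A ⥤ B) [G.Additive]
    [(G.mapHomotopyCategory (ComplexShape.up ℤ) ⋙ DerivedCategory.Qh).HasRightDerivedFunctor
      (HomotopyCategory.quasiIso A (ComplexShape.up ℤ))] (K : CochainComplex A ℤ)
    (h : IsIso ((unitQ G).app K)) :
    IsIso (((G.mapHomotopyCategory (ComplexShape.up ℤ) ⋙ DerivedCategory.Qh).totalRightDerivedUnit DerivedCategory.Qh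
      (HomotopyCategory.quasiIso A (ComplexShape.up ℤ))).app ((HomotopyCategory.quotient A _).obj K)) := by
  have h1 : IsIso ((DerivedCategory.quotientCompQhIso B).inv.app ((G.mapHomologicalComplex _).obj K) ≫
      DerivedCategory.Qh.map ((G.mapHomotopyCategoryFactors _).inv.app K) ≫
      ((G.mapHomotopyCategory (ComplexShape.up ℤ) ⋙ DerivedCategory.Qh).totalRightDerivedUnit DerivedCategory.Qh
        (HomotopyCategory.quasiIso A (ComplexShape.up ℤ))).app ((HomotopyCategory.quotient A _).obj K) ≫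
      (SiteBase.RpushD.RD G).map ((DerivedCategory.quotientCompQhIso A).hom.app K)) := h
  have h2 := @IsIso.of_isIso_comp_left _ _ _ _ _ _ _ _ h1
  have h3 := @IsIso.of_isIso_comp_left _ _ _ _ _ _ _ _ h2
  exact @IsIso.of_isIso_comp_right _ _ _ _ _ _ _ _ h3

theorem compIso_inv_app {A B C : Type*} [Category A] [Category B] [Category C] [Preadditive A] [Preadditive B]
    [Preadditive C] (F : A ⥤ B) (G : B ⥤ C) [F.Additive] [G.Additive] (K : CochainComplex A ℤ) :
    (Functor.mapHomotopyCategoryCompIso (Iso.refl (F ⋙ G)) (ComplexShape.up ℤ)).inv.app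
      ((HomotopyCategory.quotient A _).obj K) =
      (HomotopyCategory.quotient C _).map (𝟙 (((F ⋙ G).mapHomologicalComplex (ComplexShape.up ℤ)).obj K)) := rfl

variable (Λ : Type (u + 1)) [CommRing Λ]
  {X S X' S' : Scheme.{u}} (f : X ⟶ S) (g : S' ⟶ S) (f' : X' ⟶ S') (g' : X' ⟶ X) (w : g' ≫ f = f' ≫ g)
  [PreservesFiniteLimits (EtModW.pull Λ g)] [PreservesFiniteLimits (EtModW.pull Λ g')]
  [EtBC.HasRpushMod Λ f] [EtBC.HasRpushMod Λ f'] [EtBC.HasRpushMod Λ g]

/-- criterion for the base change map -/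
theorem isIso_bcMapModD
    (h0 : ∀ M : EtModW.Mod Λ X, Injective M → IsIso (EtSix.baseChange0Mod Λ f g f' g' w M))
    (hu : ∀ I : CochainComplex (EtModW.Mod Λ X) ℤ, (∀ j, Injective (I.X j)) →
      IsIso ((unitQ (EtModW.push Λ f')).app (((EtModW.pull Λ g').mapHomologicalComplex (ComplexShape.up ℤ)).obj I)))
    (adj : EtBC.pullModD Λ g ⊣ EtBC.RpushModD Λ g) (K : EtModD.D Λ X) :
    IsIso (EtBC.bcMapModD Λ f g f' g' w adj K) := by
  obtain ⟨I, s, hI, hs, -, hinj⟩ := TriCat.exists_kInjective_resolution' (DerivedCategory.Q.objPreimage K)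
  haveI := hI
  let q {Y : Scheme.{u}} := HomotopyCategory.quotient (EtModW.Mod Λ Y) (ComplexShape.up ℤ)
  let X₀ := DerivedCategory.Qh.obj ((q (Y := X)).obj I)
  suffices h : IsIso (EtBC.bcMapModD Λ f g f' g' w adj X₀) by
    haveI : IsIso (DerivedCategory.Q.map s) := (DerivedCategory.isIso_Q_map_iff_quasiIso _ _).2 hs
    let e : K ≅ X₀ := (DerivedCategory.Q.objObjPreimageIso K).symm ≪≫ asIso (DerivedCategory.Q.map s) ≪≫
      ((DerivedCategory.quotientCompQhIso _).app I).symm
    have hn : (EtBC.pullModD Λ g).map ((EtBC.RpushModD Λ f).map e.hom) ≫ EtBC.bcMapModD Λ f g f' g' w adj X₀ =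
        EtBC.bcMapModD Λ f g f' g' w adj K ≫ (EtBC.RpushModD Λ f').map ((EtBC.pullModD Λ g').map e.hom) := by
      refine (adj.homEquiv_naturality_left_symm _ _).symm.trans (Eq.trans ?_ (adj.homEquiv_naturality_right_symm _ _))
      exact congrArg _ ((EtBC.bcAdjModD Λ f g f' g' w).naturality e.hom)
    haveI : IsIso (EtBC.bcMapModD Λ f g f' g' w adj K ≫ (EtBC.RpushModD Λ f').map ((EtBC.pullModD Λ g').map e.hom)) := by
      rw [← hn]; infer_instance
    exact IsIso.of_isIso_comp_right _ ((EtBC.RpushModD Λ f').map ((EtBC.pullModD Λ g').map e.hom))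
  let P := ((EtModW.pull Λ g').mapHomologicalComplex (ComplexShape.up ℤ)).obj I
  let M := ((EtModW.push Λ f').mapHomologicalComplex (ComplexShape.up ℤ)).obj P
  let N := ((EtModW.push Λ f).mapHomologicalComplex (ComplexShape.up ℤ)).obj I
  let ψ : N ⟶ ((EtModW.push Λ g).mapHomologicalComplex (ComplexShape.up ℤ)).obj M :=
    { f := fun i => (EtSix.pushToPushPullMod Λ f g f' g' w).app (I.X i)
      comm' := fun i j _ => ((EtSix.pushToPushPullMod Λ f g f' g' w).naturality (I.d i j)).symm }
  have hψ : ∀ i, IsIso (((EtSix.pullPushModAdj Λ g).homEquiv _ _).symm (ψ.f i)) := fun i => h0 _ (hinj i)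
  have ht := isIso_transpose (EtModW.push Λ g) (EtSix.pullPushModAdj Λ g) adj ψ hψ
  let αf := ((EtBC.pushModKh Λ f).totalRightDerivedUnit DerivedCategory.Qh
    (HomotopyCategory.quasiIso (EtModW.Mod Λ X) (ComplexShape.up ℤ))).app ((q (Y := X)).obj I)
  let αg := ((EtBC.pushModKh Λ g).totalRightDerivedUnit DerivedCategory.Qh
    (HomotopyCategory.quasiIso (EtModW.Mod Λ S') (ComplexShape.up ℤ))).app ((q (Y := S')).obj M)
  let αf' := ((EtBC.pushModKh Λ f').totalRightDerivedUnit DerivedCategory.Qh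
    (HomotopyCategory.quasiIso (EtModW.Mod Λ X') (ComplexShape.up ℤ))).app ((q (Y := X')).obj P)
  haveI : IsIso αf := isIso_totalUnit (EtModW.push Λ f) I (isIso_unit_kInjective (EtModW.push Λ f) I)
  haveI : IsIso αf' := isIso_totalUnit (EtModW.push Λ f') P (hu I hinj)
  let c : DerivedCategory.Qh.obj ((q (Y := S')).obj M) ⟶ (EtBC.RpushModD Λ f').obj ((EtBC.pullModD Λ g').obj X₀) :=
    αf' ≫ (EtBC.RpushModD Λ f').map ((EtModW.pull Λ g').mapDerivedCategoryFactorsh.inv.app ((q (Y := X)).obj I))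
  have hfac : αf ≫ (EtBC.bcAdjModD Λ f g f' g' w).app X₀ =
      DerivedCategory.Qh.map ((q (Y := S)).map ψ) ≫ αg ≫ (EtBC.RpushModD Λ g).map c := by
    refine (Functor.rightDerived_fac_app (EtBC.RpushModD Λ f) _
      (HomotopyCategory.quasiIso (EtModW.Mod Λ X) (ComplexShape.up ℤ)) _ (EtBC.bcUnitMod Λ f g f' g' w) _).trans ?_
    have k1 := compIso_inv_app (EtModW.pull Λ g') (EtModW.push Λ f' ⋙ EtModW.push Λ g) I
    have k2 := compIso_inv_app (EtModW.push Λ f') (EtModW.push Λ g) P
    simp [EtBC.bcUnitMod, c, q]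
    erw [k1]
    refine congrArg₂ (· ≫ ·) rfl ?_
    refine ((congrArg₂ (· ≫ ·) ((congrArg DerivedCategory.Qh.map ((HomotopyCategory.quotient _ _).map_id _)).trans
      (DerivedCategory.Qh.map_id _)) rfl).trans (Category.id_comp _)).trans ?_
    refine ((congrArg₂ (· ≫ ·) ((congrArg DerivedCategory.Qh.map ((HomotopyCategory.quotient _ _).map_id _)).trans
      (DerivedCategory.Qh.map_id _)) rfl).trans (Category.id_comp _)).trans ?_
    rfl
  have hαg : DerivedCategory.Qh.map ((q (Y := S)).map ψ) ≫ αg =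
      (DerivedCategory.quotientCompQhIso _).hom.app N ≫
        (DerivedCategory.Q.map ψ ≫ (unitQ (EtModW.push Λ g)).app M) ≫
        (EtBC.RpushModD Λ g).map ((DerivedCategory.quotientCompQhIso _).inv.app M) := by
    have hn := (DerivedCategory.quotientCompQhIso (EtModW.Mod Λ S)).hom.naturality ψ
    simp only [Functor.comp_map] at hn
    simp only [unitQ, Category.assoc]
    rw [← reassoc_of% hn]
    simp [αg, q, ← Functor.map_comp]
    congr 1
    exact (Category.id_comp _).symm.trans (congrArg (· ≫ _) (DerivedCategory.Qh.map_id _).symm)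
  let c' := (DerivedCategory.quotientCompQhIso (EtModW.Mod Λ S')).inv.app M ≫ c
  let x := DerivedCategory.Q.map ψ ≫ (unitQ (EtModW.push Λ g)).app M
  let a := inv αf ≫ (DerivedCategory.quotientCompQhIso (EtModW.Mod Λ S)).hom.app N
  have hx : (EtBC.bcAdjModD Λ f g f' g' w).app X₀ = a ≫ x ≫ (EtBC.RpushModD Λ g).map c' := by
    rw [← cancel_epi αf, hfac, ← Category.assoc, hαg]
    simp only [a, x, c', Category.assoc, Functor.map_comp, IsIso.hom_inv_id_assoc]
    rfl
  show IsIso ((adj.homEquiv _ _).symm ((EtBC.bcAdjModD Λ f g f' g' w).app X₀))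
  rw [hx]
  erw [adj.homEquiv_naturality_left_symm, adj.homEquiv_naturality_right_symm]
  haveI : IsIso ((adj.homEquiv _ _).symm x) := ht
  haveI : IsIso c := IsIso.comp_isIso' ‹IsIso αf'›
    (haveI := Iso.isIso_inv (((EtModW.pull Λ g').mapDerivedCategoryFactorsh).app ((q (Y := X)).obj I))
     ((EtBC.RpushModD Λ f').mapIso (((EtModW.pull Λ g').mapDerivedCategoryFactorsh).app ((q (Y := X)).obj I))).isIso_inv)
  haveI : IsIso c' := IsIso.comp_isIso' (Iso.isIso_inv ((DerivedCategory.quotientCompQhIso (EtModW.Mod Λ S')).app M)) ‹IsIso c›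
  haveI : IsIso a := IsIso.comp_isIso' inferInstance (Iso.isIso_hom ((DerivedCategory.quotientCompQhIso (EtModW.Mod Λ S)).app N))
  exact IsIso.comp_isIso' (Functor.map_isIso _ _) (IsIso.comp_isIso' ht ‹IsIso c'›)

end Groth.Agent.EtModAb
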