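import Groth.Agent.EtModAb.Acyclic
import Groth.Agent.EtBC.EtaleBC
import Groth.Agent.CdFin.Proper
import Groth.Agent.S3389
import Groth.Agent.GabberAff13.BigDesc.Main
import Groth.Agent.H9Misc.FinDimDerived

/-!
# Proper direct images have locally bounded dimension on sheaves of modules
-/

set_option autoImplicit false
set_option linter.style.haveILetI false
set_option backward.isDefEq.respectTransparency.types false
universe u

open CategoryTheory CategoryTheory.Limits AlgebraicGeometry Opposite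

namespace Groth.Agent.EtModAb

open Groth.Agent.TriCat Groth.Agent.EtFound

variable {X S : Scheme.{u}} (f : X ⟶ S)

/-- sheaves killed by a positive integer are torsion -/
theorem isTorsion_of_killedBy' {n : ℕ} (hn : 0 < n) {F : EtCoh.Ab X} (h : EtCoh.KilledBy n F) :
    EtCoh.IsTorsion F := fun U s x =>
  ⟨U, 𝟙 U, ⟨x, rfl⟩, isOfFinAddOrder_iff_nsmul_eq_zero.2 ⟨n, hn, h U _⟩⟩

/-- torsion sheaves have bounded direct images over quasi-compact opens -/
theorem exists_bound_ab [IsProper f] (U : S.Opens) [CompactSpace ↥(U : Scheme.{u})] :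
    ∃ N : ℕ, ∀ F : EtCoh.Ab X, EtCoh.IsTorsion F → ∀ q, N < q →
      IsZero ((EtCoh.pull U.ι).obj ((EtCoh.Rpush f q).obj F)) := by
  let f' := pullback.snd f U.ι
  let g' := pullback.fst f U.ι
  have c : IsPullback g' f' f U.ι := IsPullback.of_hasPullback f U.ι
  haveI : IsProper f' := MorphismProperty.pullback_snd f U.ι ‹IsProper f›
  obtain ⟨d, hd⟩ := S3389.result f'
  refine ⟨2 * d, fun F hF q hq => ?_⟩
  haveI : AlgebraicGeometry.Etale U.ι := inferInstance
  haveI := pull_preservesFiniteLimits g'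
  haveI : IsIso (EtBC.bcQ f U.ι f' g' c.w q F) := EtBC.isIso_bcQ_etale c q F
  refine IsZero.of_iso ?_ (asIso (EtBC.bcQ f U.ι f' g' c.w q F))
  exact CdFin.isZero_Rpush_of_supp f' d _ (GabberAff13.BigDesc.isTorsion_pull g' hF)
    (fun z _ => (FibDim.topologicalKrullDim_fiber_le_iff f' _ d).1 (hd _) z rfl) q hq

variable (Λ : Type (u + 1)) [CommRing Λ]

/-- restriction of the underlying abelian sheaf to an open subscheme -/
noncomputable abbrev restrAb (U : S.Opens) : EtModW.Mod Λ S ⥤ EtCoh.Ab (U : Scheme.{u}) :=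
  EtModD.forgetToAb Λ S ⋙ EtCoh.pull U.ι

instance restrAb_preservesFiniteLimits (U : S.Opens) : PreservesFiniteLimits (restrAb Λ U) :=
  haveI := pull_preservesFiniteLimits U.ι
  comp_preservesFiniteLimits _ _

instance restrAb_preservesFiniteColimits (U : S.Opens) : PreservesFiniteColimits (restrAb Λ U) :=
  haveI : PreservesColimitsOfSize.{0, 0} (EtCoh.pull U.ι) := (EtCoh.pullPushAdj U.ι).leftAdjoint_preservesColimits
  haveI : PreservesFiniteColimits (EtCoh.pull U.ι) := PreservesColimitsOfSize.preservesFiniteColimits _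
  comp_preservesFiniteColimits _ _

instance restrAb_additive (U : S.Opens) : (restrAb Λ U).Additive :=
  Functor.additive_of_preserves_binary_products _

/-- an object vanishing on an open cover is zero -/
theorem isZero_of_restrAb {M : EtModW.Mod Λ S}
    (h : ∀ U : S.Opens, IsAffineOpen U → IsZero ((restrAb Λ U).obj M)) : IsZero M := by
  refine isZero_of_forgetToAb Λ ((isZero_iff_stalks _).2 fun Ω _ _ ξ => ?_)
  obtain ⟨U, hU, hxU, -⟩ := exists_isAffineOpen_mem_and_subset
    (x := ξ.base (default : Spec (CommRingCat.of Ω))) (U := ⊤) trivial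
  have hr : Set.range ξ.base ⊆ Set.range U.ι.base := by
    rintro _ ⟨p, rfl⟩
    rw [Scheme.Opens.range_ι, Subsingleton.elim p default]
    exact hxU
  let ξ' := IsOpenImmersion.lift U.ι ξ hr
  have e : ξ' ≫ U.ι = ξ := IsOpenImmersion.lift_fac _ _ _
  have h1 : IsZero ((EtCoh.stalk ξ').obj ((restrAb Λ U).obj M)) := (EtCoh.stalk ξ').map_isZero (h U hU)
  rw [← e]
  exact h1.of_iso ((sheafFiberPullIso (A := AddCommGrpCat.{u + 1}) U.ι ξ').app _).symm

variable {n : ℕ} (hn : 0 < n) (hΛ : (n : Λ) = 0)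

include hn hΛ in
/-- acyclic complexes of acyclic sheaves stay acyclic under proper direct images -/
theorem exactAt_push [IsProper f] (Q : CochainComplex (EtModW.Mod Λ X) ℤ) (hQ : Q.Acyclic)
    (hP : ∀ j, IsRightAcyclic (EtModW.push Λ f) (Q.X j)) (m : ℤ) :
    (((EtModW.push Λ f).mapHomologicalComplex (ComplexShape.up ℤ)).obj Q).ExactAt m := by
  rw [HomologicalComplex.exactAt_iff_isZero_homology]
  refine isZero_of_restrAb Λ fun U hU => ?_
  haveI : CompactSpace ↥(U : Scheme.{u}) := by
    haveI : IsAffine (U : Scheme.{u}) := hU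
    infer_instance
  obtain ⟨N, hN⟩ := exists_bound_ab f U
  let G := EtModW.push Λ f ⋙ restrAb Λ U
  have hR : ∀ (q : ℕ) (M : EtModW.Mod Λ X), Nonempty ((G.rightDerived q).obj M ≅
      (restrAb Λ U).obj (((EtModW.push Λ f).rightDerived q).obj M)) := fun q M => by
    obtain ⟨e⟩ := nonempty_rightDerived_comm (EtModW.push Λ f) G (𝟭 (EtModW.Mod Λ X)) (restrAb Λ U)
      (Functor.leftUnitor _).symm
      (fun I hI q => haveI := hI; G.isZero_rightDerived_obj_injective_succ q I) q M
    exact ⟨e.symm⟩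
  have hb : ∀ i : ℕ, N < i → ∀ M, IsZero ((G.rightDerived i).obj M) := fun i hi M => by
    obtain ⟨e⟩ := hR i M
    obtain ⟨e'⟩ := nonempty_forget_rightDerived Λ f i M
    exact (hN _ (isTorsion_of_killedBy' hn (killedBy_forgetToAb Λ X hΛ M)) i hi).of_iso
      (e ≪≫ (EtCoh.pull U.ι).mapIso e')
  have hG : ∀ j, IsRightAcyclic G (Q.X j) := fun j i hi => by
    obtain ⟨e⟩ := hR i (Q.X j)
    exact ((restrAb Λ U).map_isZero (hP j i hi)).of_iso e
  have hE := H9Misc.FinDimDerived.exactAt_map G N hb Q hQ hG m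
  rw [HomologicalComplex.exactAt_iff_isZero_homology] at hE
  exact hE.of_iso (((((EtModW.push Λ f).mapHomologicalComplex (ComplexShape.up ℤ)).obj Q).sc m).mapHomologyIso
    (restrAb Λ U)).symm

end Groth.Agent.EtModAb
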