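import Groth.Agent.SiteBase.RpushD.Gen
import Groth.Agent.H9Misc.BrownGroth
import Groth.Agent.H9Misc.FinDimDerived
import Groth.Agent.TriCat.KInjRes
import Groth.Agent.TriCat.AcyclicObj

/-!
# Total derived functors computed by complexes of acyclic objects
-/

set_option autoImplicit false
set_option linter.style.haveILetI false
universe u

open CategoryTheory CategoryTheory.Limits Pretriangulated

attribute [local instance] HasDerivedCategory.standard

namespace Groth.Agent.EtModAb

open Groth.Agent.TriCat Groth.Agent.SiteBase.RpushD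

variable {A : Type (u + 1)} [Category.{u} A] [Abelian A] [IsGrothendieckAbelian.{u} A]
  {B : Type (u + 1)} [Category.{u} B] [Abelian B]
  (G : A ⥤ B) [G.Additive]
  [(G.mapHomotopyCategory (ComplexShape.up ℤ) ⋙ DerivedCategory.Qh).HasRightDerivedFunctor
    (HomotopyCategory.quasiIso A (ComplexShape.up ℤ))]

/-- `K ↦ Q (G K)` on complexes -/
noncomputable abbrev GQ : CochainComplex A ℤ ⥤ DerivedCategory B :=
  G.mapHomologicalComplex (ComplexShape.up ℤ) ⋙ DerivedCategory.Q

/-- the unit of the derived functor on complexes -/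
noncomputable def unitQ : GQ G ⟶ DerivedCategory.Q ⋙ RD G where
  app K := (DerivedCategory.quotientCompQhIso B).inv.app ((G.mapHomologicalComplex _).obj K) ≫
    DerivedCategory.Qh.map ((G.mapHomotopyCategoryFactors _).inv.app K) ≫
    ((G.mapHomotopyCategory (ComplexShape.up ℤ) ⋙ DerivedCategory.Qh).totalRightDerivedUnit DerivedCategory.Qh
      (HomotopyCategory.quasiIso A (ComplexShape.up ℤ))).app ((HomotopyCategory.quotient A _).obj K) ≫
    (RD G).map ((DerivedCategory.quotientCompQhIso A).hom.app K)
  naturality K L f := by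
    have h1 := (DerivedCategory.quotientCompQhIso B).inv.naturality ((G.mapHomologicalComplex (ComplexShape.up ℤ)).map f)
    have h2 := congrArg DerivedCategory.Qh.map ((G.mapHomotopyCategoryFactors (ComplexShape.up ℤ)).inv.naturality f)
    have h3 := ((G.mapHomotopyCategory (ComplexShape.up ℤ) ⋙ DerivedCategory.Qh).totalRightDerivedUnit
      DerivedCategory.Qh (HomotopyCategory.quasiIso A (ComplexShape.up ℤ))).naturality
        ((HomotopyCategory.quotient A _).map f)
    have h4 := congrArg (RD G).map ((DerivedCategory.quotientCompQhIso A).hom.naturality f)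
    simp only [Functor.comp_map, Functor.map_comp] at h1 h2 h3 h4 ⊢
    rw [reassoc_of% h1, reassoc_of% h2, reassoc_of% h3, h4]
    simp only [Category.assoc]

theorem isIso_unit_kInjective (I : CochainComplex A ℤ) [I.IsKInjective] :
    IsIso ((unitQ G).app I) := by
  haveI := qh_isLeftAdjoint (A := A)
  let adjQ := Adjunction.ofIsLeftAdjoint (DerivedCategory.Qh (C := A))
  let W := HomotopyCategory.quasiIso A (ComplexShape.up ℤ)
  let Φ := G.mapHomotopyCategory (ComplexShape.up ℤ) ⋙ DerivedCategory.Qh
  let α := Φ.totalRightDerivedUnit DerivedCategory.Qh W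
  haveI := isRightDerivedFunctor_of_adjunction adjQ W Φ
  let β := Functor.whiskerRight adjQ.unit Φ
  let e := Functor.rightDerivedUnique (RD G) ((DerivedCategory.Qh (C := A)).rightAdjoint ⋙ Φ) α β W
  let K := (HomotopyCategory.quotient A (ComplexShape.up ℤ)).obj I
  have he : α.app K ≫ e.hom.app _ = β.app K :=
    (Functor.rightDerivedNatTrans_fac (τ := 𝟙 Φ) (RF := RD G) (RF' := (DerivedCategory.Qh (C := A)).rightAdjoint ⋙ Φ)
      (α := α) (α' := β) (W := W) |> fun h => (congr_app h K).trans (Category.id_comp _))
  haveI := isIso_unit_of_isKInjective adjQ I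
  haveI : IsIso (β.app K) := inferInstanceAs (IsIso (Φ.map (adjQ.unit.app K)))
  haveI : IsIso (α.app K ≫ e.hom.app _) := by rw [he]; infer_instance
  haveI : IsIso (α.app K) := IsIso.of_isIso_comp_right (α.app K) (e.hom.app _)
  show IsIso (_ ≫ _ ≫ α.app K ≫ _)
  infer_instance

variable [PreservesFiniteLimits G]
  (hex : ∀ Q : CochainComplex A ℤ, Q.Acyclic → (∀ j, IsRightAcyclic G (Q.X j)) →
    ((G.mapHomologicalComplex (ComplexShape.up ℤ)).obj Q).Acyclic)

include hex in
omit [(G.mapHomotopyCategory (ComplexShape.up ℤ) ⋙ DerivedCategory.Qh).HasRightDerivedFunctor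
    (HomotopyCategory.quasiIso A (ComplexShape.up ℤ))] in
theorem isIso_GQ_map {K L : CochainComplex A ℤ} (φ : K ⟶ L) [QuasiIso φ]
    (hK : ∀ j, IsRightAcyclic G (K.X j)) (hL : ∀ j, IsRightAcyclic G (L.X j)) :
    IsIso ((GQ G).map φ) := by
  haveI hq : IsIso (DerivedCategory.Q.map φ) :=
    (DerivedCategory.isIso_Q_map_iff_quasiIso _ _).2 inferInstance
  have hT := HomotopyCategory.mappingCone_triangleh_distinguished φ
  let C₀ := CochainComplex.mappingCone φ
  have hz : IsZero (DerivedCategory.Qh.obj ((HomotopyCategory.quotient A (.up ℤ)).obj C₀)) :=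
    (Triangle.isZero₃_iff_isIso₁ _ (DerivedCategory.Qh.map_distinguished _ hT)).2
      ((NatIso.isIso_map_iff (DerivedCategory.quotientCompQhIso A) φ).2 hq)
  have hC : C₀.Acyclic := (H9Misc.FinDimDerived.isZero_Q_obj_iff C₀).1
    (hz.of_iso ((DerivedCategory.quotientCompQhIso A).symm.app C₀))
  have hP : ∀ j, IsRightAcyclic G (C₀.X j) := fun j i hi => by
    have := preservesBinaryBiproducts_of_preservesBiproducts (G.rightDerived i)
    have hb : IsZero ((G.rightDerived i).obj (K.X (j + 1) ⊞ L.X j)) :=
      ((G.rightDerived i).mapBiprod _ _).symm.isZero_iff.1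
        ((biprod_isZero_iff _ _).2 ⟨hK (j + 1) i hi, hL j i hi⟩)
    exact hb.of_iso ((G.rightDerived i).mapIso
      (HomologicalComplex.homotopyCofiber.XIsoBiprod φ j (j + 1) rfl))
  have h1 : IsIso ((G.mapHomotopyCategory (ComplexShape.up ℤ) ⋙ DerivedCategory.Qh).map
      ((HomotopyCategory.quotient A _).map φ)) := by
    refine (Triangle.isZero₃_iff_isIso₁ _
      ((G.mapHomotopyCategory (ComplexShape.up ℤ) ⋙ DerivedCategory.Qh).map_distinguished _ hT)).1 ?_
    exact ((H9Misc.FinDimDerived.isZero_Q_obj_iff _).2 (hex C₀ hC hP)).of_iso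
      ((Functor.isoWhiskerRight (G.mapHomotopyCategoryFactors (ComplexShape.up ℤ)) DerivedCategory.Qh).app C₀ ≪≫
        (DerivedCategory.quotientCompQhIso B).app _)
  exact (NatIso.isIso_map_iff (Functor.isoWhiskerRight (G.mapHomotopyCategoryFactors (ComplexShape.up ℤ))
    DerivedCategory.Qh ≪≫ Functor.associator _ _ _ ≪≫
      Functor.isoWhiskerLeft (G.mapHomologicalComplex (ComplexShape.up ℤ)) (DerivedCategory.quotientCompQhIso B)) φ).1 h1

include hex in
/-- complexes of acyclic objects compute the derived functor -/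
theorem isIso_unit (K : CochainComplex A ℤ) (hK : ∀ j, IsRightAcyclic G (K.X j)) :
    IsIso ((unitQ G).app K) := by
  obtain ⟨I, φ, hI, hφ, -, hinj⟩ := TriCat.exists_kInjective_resolution' K
  haveI := hI
  haveI := hφ
  haveI := isIso_unit_kInjective G I
  haveI : IsIso ((GQ G).map φ) := isIso_GQ_map G hex φ hK
    fun j => haveI := hinj j; isRightAcyclic_of_injective (F := G) _
  haveI : IsIso (DerivedCategory.Q.map φ) := (DerivedCategory.isIso_Q_map_iff_quasiIso _ _).2 hφ
  haveI : IsIso ((DerivedCategory.Q ⋙ RD G).map φ) := inferInstanceAs (IsIso ((RD G).map (DerivedCategory.Q.map φ)))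
  haveI : IsIso ((unitQ G).app K ≫ (DerivedCategory.Q ⋙ RD G).map φ) := by
    rw [← (unitQ G).naturality φ]
    infer_instance
  exact IsIso.of_isIso_comp_right _ ((DerivedCategory.Q ⋙ RD G).map φ)

include hex in
/-- derived functors commute with sums -/
theorem preservesCoproducts (ι : Type u) [HasColimitsOfShape (Discrete ι) B]
    [HasExactColimitsOfShape (Discrete ι) B] [HasExactColimitsOfShape (Discrete ι) A]
    [PreservesColimitsOfShape (Discrete ι) G]
    (hsum : ∀ I : ι → A, (∀ i, Injective (I i)) → IsRightAcyclic G (∐ I)) :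
    PreservesColimitsOfShape (Discrete ι) (RD G) := by
  haveI : HasColimitsOfShape (Discrete ι) A := inferInstance
  constructor
  intro D
  let M : ι → DerivedCategory A := fun i => D.obj ⟨i⟩
  let P : ι → CochainComplex A ℤ := fun i => DerivedCategory.Q.objPreimage (M i)
  choose I φ hI hφ _ hinj using fun i => TriCat.exists_kInjective_resolution' (P i)
  let e : ∀ i, DerivedCategory.Q.obj (I i) ≅ M i := fun i =>
    (haveI : IsIso (DerivedCategory.Q.map (φ i)) := (DerivedCategory.isIso_Q_map_iff_quasiIso _ _).2 (hφ i)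
     (asIso (DerivedCategory.Q.map (φ i))).symm) ≪≫ DerivedCategory.Q.objObjPreimageIso (M i)
  haveI := H9Misc.BrownGroth.preservesColimit_Q I
  have hK : ∀ j, IsRightAcyclic G ((∐ I).X j) := fun j => fun q hq => by
    haveI : ∀ i, Injective ((I i).X j) := fun i => hinj i j
    exact (hsum (fun i => (I i).X j) (fun i => inferInstance) q hq).of_iso ((G.rightDerived q).mapIso
      (PreservesCoproduct.iso (HomologicalComplex.eval A (ComplexShape.up ℤ) j) I))
  haveI := isIso_unit G hex (∐ I) hK
  haveI : ∀ j, PreservesColimit (Discrete.functor I ⋙ G.mapHomologicalComplex (ComplexShape.up ℤ))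
      (HomologicalComplex.eval B (ComplexShape.up ℤ) j) := fun j => inferInstance
  haveI : PreservesColimit (Discrete.functor I) (G.mapHomologicalComplex (ComplexShape.up ℤ)) := by
    refine preservesColimit_of_preserves_colimit_cocone (coproductIsCoproduct I) ?_
    refine HomologicalComplex.isColimitOfEval _ _ fun j => ?_
    exact isColimitOfPreserves (HomologicalComplex.eval A (ComplexShape.up ℤ) j ⋙ G) (coproductIsCoproduct I)
  haveI : PreservesColimit (Discrete.functor I ⋙ G.mapHomologicalComplex (ComplexShape.up ℤ))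
      (DerivedCategory.Q : CochainComplex B ℤ ⥤ DerivedCategory B) :=
    haveI := H9Misc.BrownGroth.preservesColimit_Q (fun i => (G.mapHomologicalComplex (ComplexShape.up ℤ)).obj (I i))
    preservesColimit_of_iso_diagram _
      (show Discrete.functor (fun i => (G.mapHomologicalComplex (ComplexShape.up ℤ)).obj (I i)) ≅
        Discrete.functor I ⋙ G.mapHomologicalComplex (ComplexShape.up ℤ) from Discrete.natIso fun _ => Iso.refl _)
  have h1 : IsColimit ((GQ G).mapCocone (colimit.cocone (Discrete.functor I))) :=
    isColimitOfPreserves _ (colimit.isColimit _)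
  let c := (DerivedCategory.Q : CochainComplex A ℤ ⥤ _).mapCocone (colimit.cocone (Discrete.functor I))
  have hc : IsColimit c := isColimitOfPreserves _ (colimit.isColimit _)
  haveI hU : ∀ i, IsIso ((unitQ G).app (I i)) := fun i => haveI := hI i; isIso_unit_kInjective G (I i)
  haveI hU' : ∀ i : Discrete ι, IsIso ((Functor.whiskerLeft (Discrete.functor I) (unitQ G)).app i) :=
    fun i => hU i.as
  haveI : IsIso (Functor.whiskerLeft (Discrete.functor I) (unitQ G)) := NatIso.isIso_of_isIso_app _
  let ν := asIso (Functor.whiskerLeft (Discrete.functor I) (unitQ G))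
  have h2 : IsColimit ((RD G).mapCocone c) := by
    refine (IsColimit.equivOfNatIsoOfIso ν _ _ ?_) h1
    refine Cocone.ext (asIso ((unitQ G).app (∐ I))) fun j => ?_
    have hn := (unitQ G).naturality (colimit.ι (Discrete.functor I) j)
    dsimp [ν, c]
    rw [Category.assoc]
    erw [hn]
    simp
  haveI : PreservesColimit (Discrete.functor I ⋙ DerivedCategory.Q) (RD G) :=
    preservesColimit_of_preserves_colimit_cocone hc h2
  exact preservesColimit_of_iso_diagram _ (Discrete.natIso fun i => e i.as :
    Discrete.functor I ⋙ DerivedCategory.Q ≅ D)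

end Groth.Agent.EtModAb
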