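import Groth.Agent.EtFound.ExtZeroExact
import Groth.Agent.EtFound.AbRecollement
import Groth.Agent.EtModAb.Basic
import Groth.Agent.EtModAb.Acyclic
import Groth.Prelude.Def_EtDl

/-!
# Extension by zero of sheaves of modules: exactness and stalks of the underlying abelian sheaves
-/

set_option autoImplicit false
set_option linter.style.haveILetI false
set_option backward.isDefEq.respectTransparency.types false
universe u

open CategoryTheory CategoryTheory.Limits AlgebraicGeometry Opposite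

namespace Groth.Agent.EtModAb

open Groth.Agent.EtFound

variable (Λ : Type (u + 1)) [CommRing Λ]

/-- stalks of underlying abelian sheaves -/
noncomputable def stalkForgetIso {X : Scheme.{u}} {Ω : Type u} [Field Ω] [IsSepClosed Ω]
    (ξ : Spec (CommRingCat.of Ω) ⟶ X) :
    EtModD.forgetToAb Λ X ⋙ EtCoh.stalk ξ ≅
      EtModW.stalk Λ ξ ⋙ forget₂ (ModuleCat.{u + 1} Λ) AddCommGrpCat.{u + 1} :=
  haveI : PreservesFilteredColimitsOfSize.{u, u} (forget₂ (ModuleCat.{u + 1} Λ) AddCommGrpCat.{u + 1}) :=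
    preservesFilteredColimitsOfSize_of_univLE.{u + 1, u + 1, u, u} _
  (Scheme.pointSmallEtale ξ).sheafFiberCompIso (forget₂ (ModuleCat.{u + 1} Λ) AddCommGrpCat.{u + 1})

variable {U X : Scheme.{u}} (j : U ⟶ X) [AlgebraicGeometry.Etale j] [EtShriek.JCont j]

/-- `j_!` of sheaves of modules is exact -/
theorem extZeroMod_preservesFiniteLimits : PreservesFiniteLimits (EtDl.extZeroMod Λ j) := by
  haveI : HasLimitsOfSize.{u, u} (ModuleCat.{u + 1} Λ) := hasLimitsOfSizeShrink.{u, u, u + 1, u + 1} _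
  haveI : HasProducts.{u} (ModuleCat.{u + 1} Λ) := fun J => inferInstance
  haveI : AB5OfSize.{u, u} (ModuleCat.{u + 1} Λ) := AB5OfSize_shrink.{u, u, u + 1, u + 1} _
  haveI : AB4OfSize.{u} (ModuleCat.{u + 1} Λ) := AB4.of_AB5 _
  let T := EtDl.extZeroMod Λ j ⋙ EtModD.forgetToAb Λ X
  suffices h : PreservesFiniteLimits T by
    refine ⟨fun J _ _ => ?_⟩
    exact preservesLimitsOfShape_of_reflects_of_preserves (EtDl.extZeroMod Λ j) (EtModD.forgetToAb Λ X)
  refine ⟨fun J _ _ => ⟨fun {K} => ⟨fun {c} hc => ?_⟩⟩⟩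
  refine ⟨IsLimit.ofPointIso (limit.isLimit _) (i := (isIso_iff_stalks _).2 fun Ω _ _ ξ => ?_)⟩
  have : HasExactColimitsOfShape (Discrete (PtsOver j ξ)) (ModuleCat.{u + 1} Λ) := inferInstance
  have hM : PreservesFiniteLimits (EtDl.extZeroMod Λ j ⋙ EtModW.stalk Λ ξ) :=
    haveI := ptsStalks_colim_preservesFiniteLimits (A := ModuleCat.{u + 1} Λ) j ξ
    preservesFiniteLimits_of_natIso (extZeroStalkIso (A := ModuleCat.{u + 1} Λ) j ξ).symm
  have hP : PreservesFiniteLimits (T ⋙ EtCoh.stalk ξ) :=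
    haveI : PreservesFiniteLimits (EtDl.extZeroMod Λ j ⋙ EtModW.stalk Λ ξ ⋙
        forget₂ (ModuleCat.{u + 1} Λ) AddCommGrpCat.{u + 1}) :=
      haveI : PreservesLimitsOfSize.{0, 0} (forget₂ (ModuleCat.{u + 1} Λ) AddCommGrpCat.{u + 1}) := inferInstance
      haveI := comp_preservesFiniteLimits (EtDl.extZeroMod Λ j ⋙ EtModW.stalk Λ ξ)
        (forget₂ (ModuleCat.{u + 1} Λ) AddCommGrpCat.{u + 1})
      preservesFiniteLimits_of_natIso (Functor.associator _ _ _)
    preservesFiniteLimits_of_natIso ((Functor.isoWhiskerLeft (EtDl.extZeroMod Λ j) (stalkForgetIso Λ ξ)).symm ≪≫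
      (Functor.associator _ _ _).symm)
  have h1 : IsLimit ((EtCoh.stalk ξ).mapCone (T.mapCone c)) := isLimitOfPreserves (T ⋙ EtCoh.stalk ξ) hc
  let α := (limit.isLimit (K ⋙ T)).lift (T.mapCone c)
  let φ : (EtCoh.stalk ξ).mapCone (T.mapCone c) ⟶ (EtCoh.stalk ξ).mapCone (limit.cone (K ⋙ T)) :=
    { hom := (EtCoh.stalk ξ).map α
      w := fun k => by
        change (EtCoh.stalk ξ).map α ≫ (EtCoh.stalk ξ).map _ = (EtCoh.stalk ξ).map _
        rw [← Functor.map_comp]
        exact congrArg _ (limit.lift_π _ k) }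
  have hφ := IsLimit.hom_isIso h1 (isLimitOfPreserves (EtCoh.stalk ξ) (limit.isLimit _)) φ
  exact inferInstanceAs (IsIso ((Cone.forget _).map φ))

/-- the underlying abelian sheaf of `j_!` vanishes outside the image -/
theorem isZero_stalk_forget_extZero {Ω : Type u} [Field Ω] [IsSepClosed Ω] (ξ : Spec (CommRingCat.of Ω) ⟶ X)
    (hξ : ξ.base (default : Spec (CommRingCat.of Ω)) ∉ Set.range j.base) (M : EtModW.Mod Λ U) :
    IsZero ((EtCoh.stalk ξ).obj ((EtModD.forgetToAb Λ X).obj ((EtDl.extZeroMod Λ j).obj M))) := by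
  haveI : HasLimitsOfSize.{u, u} (ModuleCat.{u + 1} Λ) := hasLimitsOfSizeShrink.{u, u, u + 1, u + 1} _
  haveI : HasProducts.{u} (ModuleCat.{u + 1} Λ) := fun J => inferInstance
  have : IsEmpty (PtsOver j ξ) := ⟨fun z => hξ (by
    rw [← z.2]
    exact ⟨_, (Scheme.Hom.comp_apply _ _ _).symm⟩)⟩
  have h0 : IsZero ((EtModW.stalk Λ ξ).obj ((EtDl.extZeroMod Λ j).obj M)) := by
    rw [IsZero.iff_id_eq_zero]
    exact Cofan.IsColimit.hom_ext (extZeroCofanIsColimit (A := ModuleCat.{u + 1} Λ) j ξ M) _ _ (fun z => isEmptyElim z)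
  exact ((forget₂ (ModuleCat.{u + 1} Λ) AddCommGrpCat.{u + 1}).map_isZero h0).of_iso
    ((stalkForgetIso Λ ξ).app _)

end Groth.Agent.EtModAb
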