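import Groth.Agent.EtModAb.Acyclic
import Groth.Agent.EtFound.PullGerm
import Groth.Agent.EtFound.PullStalk
import Groth.Agent.EtFound.Detect
import Mathlib.Algebra.Category.ModuleCat.FilteredColimits

/-!
# Inverse images of sheaves of modules and their underlying abelian sheaves
-/

set_option autoImplicit false
set_option linter.style.haveILetI false
set_option backward.isDefEq.respectTransparency.types false
set_option maxHeartbeats 1000000
universe u

open CategoryTheory CategoryTheory.Limits AlgebraicGeometry Opposite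

namespace Groth.Agent.EtModAb

open Groth.Agent.EtFound

variable (Λ : Type (u + 1)) [CommRing Λ] {X Y : Scheme.{u}} (f : X ⟶ Y)

/-- the comparison of the inverse images -/
noncomputable def pullForget : EtModD.forgetToAb Λ Y ⋙ EtCoh.pull f ⟶ EtModW.pull Λ f ⋙ EtModD.forgetToAb Λ X where
  app M := ((EtCoh.pullPushAdj f).homEquiv _ _).symm
    ((EtModD.forgetToAb Λ Y).map ((EtSix.pullPushModAdj Λ f).unit.app M))
  naturality M N a := by
    apply ((EtCoh.pullPushAdj f).homEquiv _ _).injective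
    dsimp only [Functor.comp_map]
    rw [(EtCoh.pullPushAdj f).homEquiv_naturality_left, (EtCoh.pullPushAdj f).homEquiv_naturality_right,
      Equiv.apply_symm_apply, Equiv.apply_symm_apply]
    exact ((EtModD.forgetToAb Λ Y).map_comp _ _).symm.trans
      ((congrArg (EtModD.forgetToAb Λ Y).map ((EtSix.pullPushModAdj Λ f).unit.naturality a)).trans
        ((EtModD.forgetToAb Λ Y).map_comp _ _))

theorem unit_pullForget (M : EtModW.Mod Λ Y) :
    (EtCoh.pullPushAdj f).unit.app ((EtModD.forgetToAb Λ Y).obj M) ≫ (EtCoh.push f).map ((pullForget Λ f).app M) =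
      (EtModD.forgetToAb Λ Y).map ((EtSix.pullPushModAdj Λ f).unit.app M) :=
  ((EtCoh.pullPushAdj f).homEquiv_unit _ _ _).symm.trans (Equiv.apply_symm_apply _ _)

/-- inverse images commute with the underlying abelian sheaves -/
theorem isIso_pullForget (M : EtModW.Mod Λ Y) : IsIso ((pullForget Λ f).app M) := by
  refine (isIso_iff_stalks _).2 fun Ω _ _ ξ => ?_
  haveI : HasLimitsOfSize.{u + 1, u + 1} (ModuleCat.{u + 1} Λ) := inferInstance
  haveI : HasColimitsOfSize.{u + 1, u + 1} (ModuleCat.{u + 1} Λ) := inferInstance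
  haveI : HasLimitsOfSize.{u, u} (ModuleCat.{u + 1} Λ) := hasLimitsOfSizeShrink.{u, u, u + 1, u + 1} _
  haveI : HasColimitsOfSize.{u, u} (ModuleCat.{u + 1} Λ) := hasColimitsOfSizeShrink.{u, u, u + 1, u + 1} _
  haveI : HasProducts.{u} (ModuleCat.{u + 1} Λ) := fun J => inferInstance
  let Φ := Scheme.pointSmallEtale ξ
  let Φ' := Scheme.pointSmallEtale (ξ ≫ f)
  haveI : PreservesFilteredColimitsOfSize.{u, u} (forget₂ (ModuleCat.{u + 1} Λ) AddCommGrpCat.{u + 1}) :=
    preservesFilteredColimitsOfSize_of_univLE.{u + 1, u + 1, u, u} _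
  let F := forget₂ (ModuleCat.{u + 1} Λ) AddCommGrpCat.{u + 1}
  let FM := (EtModD.forgetToAb Λ Y).obj M
  let PM := (EtModW.pull Λ f).obj M
  let iA := (sheafFiberPullIso (A := AddCommGrpCat.{u + 1}) f ξ).app FM
  let iM := (sheafFiberPullIso (A := ModuleCat.{u + 1} Λ) f ξ).app M
  let e : Φ'.presheafFiber.obj FM.obj ≅ Φ.presheafFiber.obj ((EtModD.forgetToAb Λ X).obj PM).obj :=
    (Φ'.presheafFiberCompIso F).app M.obj ≪≫ F.mapIso iM.symm ≪≫ ((Φ.presheafFiberCompIso F).app PM.obj).symm
  suffices h : iA.inv ≫ Φ.presheafFiber.map ((pullForget Λ f).app M).hom = e.hom by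
    change IsIso (Φ.presheafFiber.map ((pullForget Λ f).app M).hom)
    haveI : IsIso (iA.inv ≫ Φ.presheafFiber.map ((pullForget Λ f).app M).hom) := by rw [h]; infer_instance
    exact IsIso.of_isIso_comp_left iA.inv _
  refine Φ'.presheafFiber_hom_ext fun V v => ?_
  obtain ⟨t, rfl⟩ := (bcFiberEquiv f ξ V).surjective v
  have hA := sheafFiberPullIso_germ (A := AddCommGrpCat.{u + 1}) f ξ FM V t
  have hu := congrArg (fun q => q.hom.app (op V)) (unit_pullForget Λ f M)
  have hn := Φ.toPresheafFiber_naturality ((pullForget Λ f).app M).hom ((EtCoh.bc f).obj V) t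
  have hL : Φ'.toPresheafFiber V (bcFiberEquiv f ξ V t) FM.obj ≫ iA.inv ≫
        Φ.presheafFiber.map ((pullForget Λ f).app M).hom =
      F.map (((EtSix.pullPushModAdj Λ f).unit.app M).hom.app (op V)) ≫
        Φ.toPresheafFiber ((EtCoh.bc f).obj V) t ((EtModD.forgetToAb Λ X).obj PM).obj :=
    (Category.assoc _ _ _).symm.trans ((congrArg (· ≫ _) hA).trans ((Category.assoc _ _ _).trans
      ((congrArg (_ ≫ ·) hn).trans ((Category.assoc _ _ _).symm.trans (congrArg (· ≫ _) hu)))))
  have hM := (F.map_comp _ _).symm.trans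
    ((congrArg F.map (sheafFiberPullIso_germ (A := ModuleCat.{u + 1} Λ) f ξ M V t)).trans (F.map_comp _ _))
  have h1 := Φ'.toPresheafFiber_presheafFiberCompIso_hom_app F V (bcFiberEquiv f ξ V t) M.obj
  have h2 := Φ.toPresheafFiber_presheafFiberCompIso_hom_app F ((EtCoh.bc f).obj V) t PM.obj
  have h3 : Φ.toPresheafFiber ((EtCoh.bc f).obj V) t (PM.obj ⋙ F) =
      F.map (Φ.toPresheafFiber ((EtCoh.bc f).obj V) t PM.obj) ≫ (Φ.presheafFiberCompIso F).inv.app PM.obj :=
    (Iso.eq_comp_inv ((Φ.presheafFiberCompIso F).app PM.obj)).2 h2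
  refine hL.trans (Eq.symm ?_)
  refine (Category.assoc _ _ _).symm.trans ((congrArg (· ≫ _) h1).trans ?_)
  refine (Category.assoc _ _ _).symm.trans ((congrArg (· ≫ _) hM).trans ?_)
  exact (Category.assoc _ _ _).trans (congrArg (_ ≫ ·) h3.symm)

end Groth.Agent.EtModAb
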