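import Groth.Agent.EtModAb.Derived
import Groth.Agent.SiteBase.KInjAdj

/-!
# Transposes under adjunctions of derived functors
-/

set_option autoImplicit false
set_option linter.style.haveILetI false
universe u v w

open CategoryTheory CategoryTheory.Limits Pretriangulated

attribute [local instance] HasDerivedCategory.standard

namespace Groth.Agent.EtModAb

open Groth.Agent.TriCat Groth.Agent.SiteBase.RpushD

section Q

variable {C : Type w} [Category.{v} C] [Abelian C]

theorem exists_Q_map_eq {M J : CochainComplex C ℤ} [J.IsKInjective]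
    (h : DerivedCategory.Q.obj M ⟶ DerivedCategory.Q.obj J) : ∃ χ : M ⟶ J, DerivedCategory.Q.map χ = h := by
  obtain ⟨g, hg⟩ := (CochainComplex.IsKInjective.Qh_map_bijective ((HomotopyCategory.quotient _ _).obj M) J).2
    ((DerivedCategory.quotientCompQhIso C).hom.app M ≫ h ≫ (DerivedCategory.quotientCompQhIso C).inv.app J)
  obtain ⟨χ, rfl⟩ := (HomotopyCategory.quotient C _).map_surjective g
  refine ⟨χ, ?_⟩
  rw [← cancel_epi ((DerivedCategory.quotientCompQhIso C).hom.app M),
    ← (DerivedCategory.quotientCompQhIso C).hom.naturality χ]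
  refine (congrArg (· ≫ _) hg).trans ?_
  simp

theorem nonempty_homotopy_of_Q_map_eq {M J : CochainComplex C ℤ} [J.IsKInjective] (χ χ' : M ⟶ J)
    (h : DerivedCategory.Q.map χ = DerivedCategory.Q.map χ') : Nonempty (Homotopy χ χ') := by
  have h' : (HomotopyCategory.quotient C (ComplexShape.up ℤ) ⋙ DerivedCategory.Qh).map χ =
      (HomotopyCategory.quotient C (ComplexShape.up ℤ) ⋙ DerivedCategory.Qh).map χ' := by
    rw [← cancel_mono ((DerivedCategory.quotientCompQhIso C).hom.app J),
      (DerivedCategory.quotientCompQhIso C).hom.naturality χ,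
      (DerivedCategory.quotientCompQhIso C).hom.naturality χ', h]
  exact ⟨HomotopyCategory.homotopyOfEq _ _ ((CochainComplex.IsKInjective.Qh_map_bijective _ J).1 h')⟩

end Q

variable {A : Type (u + 1)} [Category.{u} A] [Abelian A] [IsGrothendieckAbelian.{u} A]
  {B : Type (u + 1)} [Category.{u} B] [Abelian B]
  (G : A ⥤ B) [G.Additive]
  [(G.mapHomotopyCategory (ComplexShape.up ℤ) ⋙ DerivedCategory.Qh).HasRightDerivedFunctor
    (HomotopyCategory.quasiIso A (ComplexShape.up ℤ))]
  {F : B ⥤ A} [F.Additive] [PreservesFiniteLimits F] [PreservesFiniteColimits F] (adjA : F ⊣ G)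

include adjA in
/-- universal arrows transpose to isomorphisms -/
theorem isIso_transpose {L : DerivedCategory B ⥤ DerivedCategory A} (adj : L ⊣ RD G)
    {N : CochainComplex B ℤ} {M : CochainComplex A ℤ} (ψ : N ⟶ (G.mapHomologicalComplex (ComplexShape.up ℤ)).obj M)
    (hψ : ∀ i, IsIso ((adjA.homEquiv _ _).symm (ψ.f i))) :
    IsIso ((adj.homEquiv _ _).symm (DerivedCategory.Q.map ψ ≫ (unitQ G).app M)) := by
  haveI := fun i => hψ i
  let x := DerivedCategory.Q.map ψ ≫ (unitQ G).app M
  let t := (adj.homEquiv _ _).symm x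
  suffices hb : ∀ T, Function.Bijective (fun h : DerivedCategory.Q.obj M ⟶ T => x ≫ (RD G).map h) by
    refine isIso_of_coyoneda_map_bijective t fun T => ?_
    refine (Function.Bijective.of_comp_iff' (adj.homEquiv (DerivedCategory.Q.obj N) T).bijective _).1 ?_
    have e : (adj.homEquiv (DerivedCategory.Q.obj N) T) ∘ (fun h => t ≫ h) =
        fun h : DerivedCategory.Q.obj M ⟶ T => x ≫ (RD G).map h := funext fun h =>
      (adj.homEquiv_naturality_right t h).trans (congrArg (· ≫ _) (Equiv.apply_symm_apply _ _))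
    rw [e]
    exact hb T
  intro T
  obtain ⟨J, g, hJ, hg, -, -⟩ := exists_kInjective_resolution' (DerivedCategory.Q.objPreimage T)
  haveI := hJ
  haveI : IsIso (DerivedCategory.Q.map g) := (DerivedCategory.isIso_Q_map_iff_quasiIso _ _).2 hg
  let eT : DerivedCategory.Q.obj J ≅ T :=
    (asIso (DerivedCategory.Q.map g)).symm ≪≫ DerivedCategory.Q.objObjPreimageIso T
  suffices hb : Function.Bijective (fun h : DerivedCategory.Q.obj M ⟶ DerivedCategory.Q.obj J => x ≫ (RD G).map h) by
    have h2 := (((RD G).mapIso eT).homToEquiv).bijective.comp (hb.comp (eT.symm.homToEquiv).bijective)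
    refine (funext fun h => ?_ : _ = fun h : DerivedCategory.Q.obj M ⟶ T => x ≫ (RD G).map h) ▸ h2
    simp [Iso.homToEquiv, ← Functor.map_comp]
  haveI := isIso_unit_kInjective G J
  haveI := SiteBase.isKInjective_map adjA J
  have hmap : ∀ χ : M ⟶ J, x ≫ (RD G).map (DerivedCategory.Q.map χ) =
      DerivedCategory.Q.map (ψ ≫ (G.mapHomologicalComplex _).map χ) ≫ (unitQ G).app J := fun χ => by
    have hn := (unitQ G).naturality χ
    simp only [Functor.comp_map] at hn
    simp [x, hn]
  let ε : (F.mapHomologicalComplex (ComplexShape.up ℤ)).obj ((G.mapHomologicalComplex _).obj J) ⟶ J :=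
    { f := fun i => adjA.counit.app (J.X i)
      comm' := fun i j _ => (adjA.counit.naturality (J.d i j)).symm }
  let εM : (F.mapHomologicalComplex (ComplexShape.up ℤ)).obj ((G.mapHomologicalComplex _).obj M) ⟶ M :=
    { f := fun i => adjA.counit.app (M.X i)
      comm' := fun i j _ => (adjA.counit.naturality (M.d i j)).symm }
  let φ := (F.mapHomologicalComplex (ComplexShape.up ℤ)).map ψ ≫ εM
  have hφ : ∀ i, φ.f i = (adjA.homEquiv _ _).symm (ψ.f i) := fun i => (adjA.homEquiv_counit _ _ _).symm
  haveI : ∀ i, IsIso (φ.f i) := fun i => by rw [hφ]; exact hψ i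
  haveI : IsIso φ := HomologicalComplex.Hom.isIso_of_components _
  have e' : ∀ (θ : N ⟶ (G.mapHomologicalComplex _).obj J) (i : ℤ),
      ((F.mapHomologicalComplex (ComplexShape.up ℤ)).map θ ≫ ε).f i = (adjA.homEquiv _ _).symm (θ.f i) :=
    fun θ i => (adjA.homEquiv_counit _ _ _).symm
  have e'' : ∀ a : M ⟶ J, (F.mapHomologicalComplex (ComplexShape.up ℤ)).map (ψ ≫ (G.mapHomologicalComplex _).map a) ≫ ε =
      φ ≫ a := fun a => HomologicalComplex.hom_ext _ _ fun i =>
    (e' _ i).trans ((adjA.homEquiv_naturality_right_symm (ψ.f i) (a.f i)).trans (congrArg (· ≫ a.f i) (hφ i).symm))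
  constructor
  · intro h h' e
    obtain ⟨χ, rfl⟩ := exists_Q_map_eq h
    obtain ⟨χ', rfl⟩ := exists_Q_map_eq h'
    obtain ⟨H⟩ := nonempty_homotopy_of_Q_map_eq _ _
      ((cancel_mono ((unitQ G).app J)).1 ((hmap χ).symm.trans (e.trans (hmap χ'))))
    have H2 : Homotopy (φ ≫ χ) (φ ≫ χ') :=
      ((Homotopy.ofEq (e'' χ).symm).trans ((F.mapHomotopy H).compRight ε)).trans (Homotopy.ofEq (e'' χ'))
    have H3 : Homotopy χ χ' := ((Homotopy.ofEq (IsIso.inv_hom_id_assoc φ χ).symm).trans
      (H2.compLeft (inv φ))).trans (Homotopy.ofEq (IsIso.inv_hom_id_assoc φ χ'))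
    have := congrArg DerivedCategory.Qh.map (HomotopyCategory.eq_of_homotopy _ _ H3)
    rw [← cancel_epi ((DerivedCategory.quotientCompQhIso A).hom.app M),
      ← (DerivedCategory.quotientCompQhIso A).hom.naturality χ, ← (DerivedCategory.quotientCompQhIso A).hom.naturality χ']
    exact congrArg (· ≫ _) this
  · intro y
    obtain ⟨θ, hθ⟩ := exists_Q_map_eq (y ≫ inv ((unitQ G).app J))
    let χ : M ⟶ J := inv φ ≫ (F.mapHomologicalComplex (ComplexShape.up ℤ)).map θ ≫ ε
    refine ⟨DerivedCategory.Q.map χ, (hmap χ).trans ?_⟩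
    have : ψ ≫ (G.mapHomologicalComplex _).map χ = θ := HomologicalComplex.hom_ext _ _ fun i => by
      apply (adjA.homEquiv _ _).symm.injective
      refine (e' _ i).symm.trans ((congrArg (fun q => q.f i) (e'' χ)).trans ?_)
      exact (congrArg (fun q : _ ⟶ J => q.f i)
        (IsIso.hom_inv_id_assoc φ ((F.mapHomologicalComplex (ComplexShape.up ℤ)).map θ ≫ ε))).trans (e' θ i)
    rw [this, hθ, Category.assoc, IsIso.inv_hom_id, Category.comp_id]

end Groth.Agent.EtModAb
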