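import Groth.Agent.H9Misc.AcyclicUnit
import Groth.Agent.EtModAb.Derived

/-!
# Complexes of acyclic objects and derived functors commuting with countable sums
-/

set_option autoImplicit false
set_option linter.style.haveILetI false
universe u

open CategoryTheory Category Limits Pretriangulated HomologicalComplex

attribute [local instance] HasDerivedCategory.standard

namespace Groth.Agent.EtModAb

open Groth.Agent.TriCat Groth.Agent.H9Misc.AcyclicUnit

variable {A : Type (u + 1)} [Category.{u} A] [Abelian A] [IsGrothendieckAbelian.{u} A]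
  {B : Type (u + 1)} [Category.{u} B] [Abelian B] [IsGrothendieckAbelian.{u} B]
  (F : A ⥤ B) [F.Additive] [PreservesFiniteLimits F]

theorem isIso_totalUnit_of_sums [PreservesColimitsOfShape (Discrete ℕ) F]
    [(F.mapHomotopyCategory (ComplexShape.up ℤ) ⋙ DerivedCategory.Qh).HasRightDerivedFunctor
      (HomotopyCategory.quasiIso A (ComplexShape.up ℤ))]
    [PreservesColimitsOfShape (Discrete ℕ) ((F.mapHomotopyCategory (ComplexShape.up ℤ) ⋙
      DerivedCategory.Qh).totalRightDerived DerivedCategory.Qh (HomotopyCategory.quasiIso A (ComplexShape.up ℤ)))]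
    (K : CochainComplex A ℤ) (hK : ∀ m, IsRightAcyclic F (K.X m)) :
    IsIso (((F.mapHomotopyCategory (ComplexShape.up ℤ) ⋙ DerivedCategory.Qh).totalRightDerivedUnit DerivedCategory.Qh
      (HomotopyCategory.quasiIso A (ComplexShape.up ℤ))).app ((HomotopyCategory.quotient A (ComplexShape.up ℤ)).obj K)) := by
  let W := HomotopyCategory.quasiIso A (ComplexShape.up ℤ)
  let Φ := F.mapHomotopyCategory (ComplexShape.up ℤ) ⋙ DerivedCategory.Qh
  let q := HomotopyCategory.quotient A (ComplexShape.up ℤ)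
  let Qh : HomotopyCategory A (ComplexShape.up ℤ) ⥤ DerivedCategory A := DerivedCategory.Qh
  haveI : (DerivedCategory.Qh (C := A)).IsLeftAdjoint :=
    TriCat.qh_isLeftAdjoint_of_exists_resolution fun K => by
      obtain ⟨I, f, h1, h2, -, -⟩ := TriCat.exists_kInjective_resolution'.{u} K
      exact ⟨I, f, h1, h2⟩
  let R := Functor.rightAdjoint (DerivedCategory.Qh (C := A))
  let adj : DerivedCategory.Qh ⊣ R := Adjunction.ofIsLeftAdjoint _
  haveI : (R ⋙ Φ).IsRightDerivedFunctor (L := DerivedCategory.Qh)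
      (Functor.whiskerRight adj.unit Φ : Φ ⟶ DerivedCategory.Qh ⋙ R ⋙ Φ) W :=
    TriCat.isRightDerivedFunctor_of_adjunction adj W Φ
  let RF := Φ.totalRightDerived DerivedCategory.Qh W
  let φ : RF ≅ R ⋙ Φ := Functor.rightDerivedUnique RF (R ⋙ Φ) (Φ.totalRightDerivedUnit DerivedCategory.Qh W)
    (Functor.whiskerRight adj.unit Φ : Φ ⟶ DerivedCategory.Qh ⋙ R ⋙ Φ) W
  suffices h : IsIso (Φ.map (adj.unit.app (q.obj K))) by
    have e : (Φ.totalRightDerivedUnit DerivedCategory.Qh W).app (q.obj K) ≫
        φ.hom.app (DerivedCategory.Qh.obj (q.obj K)) = Φ.map (adj.unit.app (q.obj K)) := by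
      simp only [φ, Functor.rightDerivedUnique, Functor.rightDerivedNatIso, Iso.refl_hom]
      exact (Functor.rightDerivedNatTrans_app _ _ _ _ W (𝟙 Φ) _).trans (id_comp _)
    haveI : IsIso ((Φ.totalRightDerivedUnit DerivedCategory.Qh W).app (q.obj K) ≫
        φ.hom.app (DerivedCategory.Qh.obj (q.obj K))) := e ▸ h
    exact IsIso.of_isIso_comp_right _ (φ.hom.app (DerivedCategory.Qh.obj (q.obj K)))
  letI : R.CommShift ℤ := adj.rightAdjointCommShift ℤ
  haveI : adj.CommShift ℤ := adj.commShift_of_leftAdjoint ℤ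
  haveI : R.IsTriangulated := adj.isTriangulated_rightAdjoint
  haveI : HasColimitsOfShape ℕ A := inferInstance
  haveI : HasExactColimitsOfShape (Discrete ℕ) A := inferInstance
  let T' := truncSystem K
  let S := ShortComplex.mk _ _ (TriCat.telescope_comp_desc T')
  have hS : S.ShortExact := TriCat.telescope_shortExact T'
  let c : colimit T' ≅ K := (colimit.isColimit T').coconePointUniqueUpToIso (isColimitTruncCocone K)
  have hc : ∀ (i : ℤ) (n : ℕ), (-i).toNat ≤ n → IsIso ((colimit.ι T' n).f i) := fun i n h => by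
    have e : colimit.ι T' n ≫ c.hom = (truncCocone K).ι.app n :=
      (colimit.isColimit T').comp_coconePointUniqueUpToIso_hom (isColimitTruncCocone K) n
    haveI := isIso_truncCocone_f K i n h
    haveI : IsIso ((colimit.ι T' n).f i ≫ c.hom.f i) := by
      rw [← HomologicalComplex.comp_f, e]; exact isIso_truncCocone_f K i n h
    exact IsIso.of_isIso_comp_right _ (c.hom.f i)
  have hsec : ∀ i, ∃ z : S.X₃.X i ⟶ S.X₂.X i, z ≫ S.g.f i = 𝟙 _ := fun i => by
    haveI hci : IsIso ((colimit.ι T' (-i).toNat).f i) := hc i (-i).toNat le_rfl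
    refine ⟨inv ((colimit.ι T' (-i).toNat).f i) ≫ (Sigma.ι T'.obj (-i).toNat).f i, ?_⟩
    show (inv ((colimit.ι T' (-i).toNat).f i) ≫ (Sigma.ι T'.obj (-i).toNat).f i) ≫
      (Sigma.desc fun n => colimit.ι T' n).f i = 𝟙 _
    rw [assoc, ← HomologicalComplex.comp_f, Sigma.ι_desc, IsIso.inv_hom_id]
  let σ : ∀ i, (S.map (HomologicalComplex.eval A (ComplexShape.up ℤ) i)).Splitting := fun i =>
    ShortComplex.Splitting.ofExactOfSection _ (hS.map_of_exact _).exact
      (hsec i).choose (hsec i).choose_spec (hS.map_of_exact _).mono_f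
  have hdist : CochainComplex.trianglehOfDegreewiseSplit S σ ∈ distTriang _ :=
    (HomotopyCategory.distinguished_iff_iso_trianglehOfDegreewiseSplit _).2 ⟨S, σ, ⟨Iso.refl _⟩⟩
  let η : 𝟭 _ ⟶ Qh ⋙ R := adj.unit
  -- the truncations
  have h₀ : ∀ n, IsIso (Φ.map (adj.unit.app (q.obj (T'.obj n)))) := fun n => by
    haveI := isStrictlyGE_T K n
    refine isIso_map_unit F adj (T K n) (-(n : ℤ)) fun j => ?_
    by_cases hj : -(n : ℤ) ≤ j
    · haveI := KFlatLib.isIso_sigmaGEι_f K _ j hj
      exact fun i hi => (hK j i hi).of_iso ((F.rightDerived i).mapIso (asIso ((ι K n).f j)))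
    · exact fun i _ => (F.rightDerived i).map_isZero
        (KFlatLib.isZero_stupidTrunc_of_lt K _ j (by omega))
  -- the sum
  have h₁ : IsIso (Φ.map (adj.unit.app (q.obj (∐ T'.obj)))) := by
    haveI : PreservesColimitsOfShape (Discrete ℕ) (F.mapHomologicalComplex (ComplexShape.up ℤ)) :=
      ⟨fun {_} => ⟨fun {c} hc => ⟨HomologicalComplex.isColimitOfEval _ _ fun i =>
        isColimitOfPreserves (HomologicalComplex.eval A (ComplexShape.up ℤ) i ⋙ F) hc⟩⟩⟩
    haveI : PreservesColimitsOfShape (Discrete ℕ) (q ⋙ Qh) :=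
      haveI : PreservesColimitsOfShape (Discrete ℕ) (DerivedCategory.Q (C := A)) :=
        haveI : ∀ f : ℕ → CochainComplex A ℤ, PreservesColimit (Discrete.functor f)
            (DerivedCategory.Q (C := A)) := fun f => preservesColimit_Q f
        preservesColimitsOfShape_of_discrete _
      preservesColimitsOfShape_of_natIso (DerivedCategory.quotientCompQhIso A).symm
    haveI : PreservesColimitsOfShape (Discrete ℕ) (HomotopyCategory.quotient B
        (ComplexShape.up ℤ) ⋙ DerivedCategory.Qh) :=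
      haveI : PreservesColimitsOfShape (Discrete ℕ) (DerivedCategory.Q (C := B)) :=
        haveI : ∀ f : ℕ → CochainComplex B ℤ, PreservesColimit (Discrete.functor f)
            (DerivedCategory.Q (C := B)) := fun f => preservesColimit_Q f
        preservesColimitsOfShape_of_discrete _
      preservesColimitsOfShape_of_natIso (DerivedCategory.quotientCompQhIso B).symm
    haveI : PreservesColimitsOfShape (Discrete ℕ) (R ⋙ Φ) := preservesColimitsOfShape_of_natIso φ
    haveI : PreservesColimitsOfShape (Discrete ℕ) (q ⋙ Φ) :=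
      preservesColimitsOfShape_of_natIso (show F.mapHomologicalComplex (ComplexShape.up ℤ) ⋙
        (HomotopyCategory.quotient B (ComplexShape.up ℤ) ⋙ DerivedCategory.Qh) ≅ q ⋙ Φ from
        Functor.isoWhiskerRight (F.mapHomotopyCategoryFactors (ComplexShape.up ℤ)).symm DerivedCategory.Qh)
    let ν : q ⋙ Φ ⟶ (q ⋙ Qh) ⋙ R ⋙ Φ :=
      { app := fun L => Φ.map (η.app (q.obj L))
        naturality := fun L M g =>
          (Φ.map_comp _ _).symm.trans
            ((congrArg Φ.map (η.naturality (q.map g))).trans (Φ.map_comp _ _)) }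
    have hu := isColimitOfPreserves (q ⋙ Φ) (coproductIsCoproduct T'.obj)
    have hv := isColimitOfPreserves ((q ⋙ Qh) ⋙ R ⋙ Φ) (coproductIsCoproduct T'.obj)
    haveI : ∀ j, IsIso ((Functor.whiskerLeft (Discrete.functor T'.obj) ν).app j) := fun j => h₀ j.as
    haveI : IsIso (Functor.whiskerLeft (Discrete.functor T'.obj) ν) := NatIso.isIso_of_isIso_app _
    let e := IsColimit.coconePointsIsoOfNatIso hu hv (asIso (Functor.whiskerLeft (Discrete.functor T'.obj) ν))
    have he : e.hom = ν.app (∐ T'.obj) := hu.hom_ext fun j => by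
      refine (IsColimit.comp_coconePointsIsoOfNatIso_hom hu hv _ j).trans ?_
      exact (ν.naturality ((Cofan.mk _ (Sigma.ι T'.obj)).ι.app j)).symm
    show IsIso (ν.app (∐ T'.obj))
    rw [← he]; infer_instance
  -- the colimit
  have h₂ : IsIso (Φ.map (adj.unit.app (q.obj (colimit T')))) := by
    let Tr := CochainComplex.trianglehOfDegreewiseSplit S σ
    let ψ : Tr ⟶ (Qh ⋙ R).mapTriangle.obj Tr :=
      { hom₁ := η.app Tr.obj₁
        hom₂ := η.app Tr.obj₂
        hom₃ := η.app Tr.obj₃
        comm₁ := η.naturality Tr.mor₁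
        comm₂ := η.naturality Tr.mor₂
        comm₃ := by
          show Tr.mor₃ ≫ (η.app Tr.obj₁)⟦(1 : ℤ)⟧' =
            η.app Tr.obj₃ ≫ (Qh ⋙ R).map Tr.mor₃ ≫ ((Qh ⋙ R).commShiftIso (1 : ℤ)).hom.app Tr.obj₁
          rw [← assoc, ← η.naturality Tr.mor₃, Functor.id_map, assoc]
          have := NatTrans.shift_app_comm η (1 : ℤ) Tr.obj₁
          simp only [Functor.commShiftIso_id_hom_app] at this
          exact congrArg (Tr.mor₃ ≫ ·) ((id_comp _).symm.trans this) }
    exact isIso₃_of_isIso₁₂ (Φ.mapTriangle.map ψ) (Φ.map_distinguished _ hdist)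
      (Φ.map_distinguished _ ((Qh ⋙ R).map_distinguished _ hdist)) h₁ h₁
  show IsIso (Φ.map (η.app (q.obj K)))
  have e : Φ.map (q.map c.hom) ≫ Φ.map (η.app (q.obj K)) =
      Φ.map (η.app (q.obj (colimit T'))) ≫ Φ.map (R.map (Qh.map (q.map c.hom))) := by
    rw [← Φ.map_comp, ← Φ.map_comp]
    exact congrArg Φ.map (η.naturality (q.map c.hom))
  haveI : IsIso (Φ.map (η.app (q.obj (colimit T')))) := h₂
  haveI : IsIso (Φ.map (q.map c.hom) ≫ Φ.map (η.app (q.obj K))) := e ▸ inferInstance
  exact IsIso.of_isIso_comp_left (Φ.map (q.map c.hom)) _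


/-- complexes of acyclic objects compute a derived functor commuting with countable sums -/
theorem isIso_unit_of_sums [PreservesColimitsOfShape (Discrete ℕ) F]
    [(F.mapHomotopyCategory (ComplexShape.up ℤ) ⋙ DerivedCategory.Qh).HasRightDerivedFunctor
      (HomotopyCategory.quasiIso A (ComplexShape.up ℤ))]
    [PreservesColimitsOfShape (Discrete ℕ) (SiteBase.RpushD.RD F)]
    (K : CochainComplex A ℤ) (hK : ∀ m, IsRightAcyclic F (K.X m)) : IsIso ((unitQ F).app K) := by
  haveI := isIso_totalUnit_of_sums F K hK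
  show IsIso (_ ≫ _ ≫ _ ≫ _)
  infer_instance

end Groth.Agent.EtModAb
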