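import Groth.Agent.EtModAb.Proper
import Groth.Agent.EtModAb.Pull
import Groth.Agent.EtModAb.Transpose
import Groth.Agent.EtModAb.UnitSums
import Groth.Agent.AffLineAcyc.Main
import Groth.Prelude.Def_W4c6etmotetsheavesDMod

/-!
# Acyclic morphisms have fully faithful unbounded inverse images
-/

set_option autoImplicit false
set_option linter.style.haveILetI false
set_option backward.isDefEq.respectTransparency.types false
set_option maxHeartbeats 1000000
universe u

open CategoryTheory CategoryTheory.Limits AlgebraicGeometry Opposite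

attribute [local instance] HasDerivedCategory.standard

namespace Groth.Agent.EtModAb

open Groth.Agent.TriCat

variable (Λ : Type (u + 1)) [CommRing Λ] {X S : Scheme.{u}} (p : X ⟶ S) [QuasiCompact p] [QuasiSeparated p]
  [PreservesFiniteLimits (EtModW.pull Λ p)] [EtBC.HasRpushMod Λ p]
  [∀ (ι : Type (u + 1)), PreservesColimitsOfShape (Discrete ι) (EtBC.RpushModD Λ p)]
  (hunit : ∀ M : EtModW.Mod Λ S, IsIso ((EtCoh.pullPushAdj p).unit.app ((EtModD.forgetToAb Λ S).obj M)))
  (hzero : ∀ (M : EtModW.Mod Λ S) (q : ℕ), 0 < q →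
    IsZero ((EtCoh.Rpush p q).obj ((EtCoh.pull p).obj ((EtModD.forgetToAb Λ S).obj M))))

include hunit hzero in
/-- a morphism without cohomology has fully faithful inverse image on derived categories -/
theorem pullModD_fullyFaithful : (EtBC.pullModD Λ p).Full ∧ (EtBC.pullModD Λ p).Faithful := by
  haveI : PreservesFiniteColimits (EtModW.pull Λ p) := EtBC.pullMod_preservesFiniteColimits Λ p
  obtain ⟨adj⟩ := SiteBase.RpushD.nonempty_adj (A := EtModW.Mod Λ X) (B := EtModW.Mod Λ S) (EtModW.push Λ p)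
    (EtSix.pullPushModAdj Λ p)
  suffices h : ∀ K, IsIso (adj.unit.app K) by
    haveI : IsIso adj.unit := @NatIso.isIso_of_isIso_app _ _ _ _ _ _ _ h
    exact ⟨adj.fullyFaithfulLOfIsIsoUnit.full, adj.fullyFaithfulLOfIsIsoUnit.faithful⟩
  intro K
  let N := DerivedCategory.Q.objPreimage K
  suffices h : IsIso (adj.unit.app (DerivedCategory.Q.obj N)) by
    exact (NatTrans.isIso_app_iff_of_iso adj.unit (DerivedCategory.Q.objObjPreimageIso K)).1 h
  have hη : ∀ M : EtModW.Mod Λ S, IsIso ((EtSix.pullPushModAdj Λ p).unit.app M) := fun M => by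
    haveI := isIso_pullForget Λ p M
    haveI : IsIso ((EtModD.forgetToAb Λ S).map ((EtSix.pullPushModAdj Λ p).unit.app M)) := by
      rw [← unit_pullForget]
      exact IsIso.comp_isIso' (hunit M) (Functor.map_isIso _ _)
    exact isIso_of_reflects_iso _ (EtModD.forgetToAb Λ S)
  have hac : ∀ M : EtModW.Mod Λ S, IsRightAcyclic (EtModW.push Λ p) ((EtModW.pull Λ p).obj M) := fun M =>
    (isRightAcyclic_iff Λ p _).2 fun q hq => by
      haveI := isIso_pullForget Λ p M
      exact (hzero M q hq).of_iso (((EtCoh.push p).rightDerived q).mapIso (asIso ((pullForget Λ p).app M)).symm)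
  let M := ((EtModW.pull Λ p).mapHomologicalComplex (ComplexShape.up ℤ)).obj N
  let ψ : N ⟶ ((EtModW.push Λ p).mapHomologicalComplex (ComplexShape.up ℤ)).obj M :=
    { f := fun i => (EtSix.pullPushModAdj Λ p).unit.app (N.X i)
      comm' := fun i j _ => ((EtSix.pullPushModAdj Λ p).unit.naturality (N.d i j)).symm }
  have hψ : ∀ i, IsIso (((EtSix.pullPushModAdj Λ p).homEquiv _ _).symm (ψ.f i)) := fun i => by
    rw [show ((EtSix.pullPushModAdj Λ p).homEquiv _ _).symm (ψ.f i) = 𝟙 _ from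
      ((EtSix.pullPushModAdj Λ p).homEquiv_counit _ _ _).trans
        ((EtSix.pullPushModAdj Λ p).left_triangle_components _)]
    exact IsIso.id _
  have ht := isIso_transpose (EtModW.push Λ p) (EtSix.pullPushModAdj Λ p) adj ψ hψ
  haveI : ∀ i, IsIso (ψ.f i) := fun i => hη _
  haveI : IsIso ψ := HomologicalComplex.Hom.isIso_of_components _
  haveI : PreservesColimitsOfShape (Discrete (ULift.{u + 1} ℕ)) (EtModW.push Λ p) :=
    preservesColimitsOfShape_push_discrete Λ p _
  haveI : PreservesColimitsOfShape (Discrete ℕ) (EtModW.push Λ p) :=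
    preservesColimitsOfShape_of_equiv (Discrete.equivalence Equiv.ulift.{u + 1}) _
  haveI : PreservesColimitsOfShape (Discrete ℕ) (SiteBase.RpushD.RD (EtModW.push Λ p)) :=
    haveI : PreservesColimitsOfShape (Discrete (ULift.{u + 1} ℕ)) (EtBC.RpushModD Λ p) := inferInstance
    preservesColimitsOfShape_of_equiv (Discrete.equivalence Equiv.ulift.{u + 1}) _
  haveI hu := isIso_unit_of_sums (EtModW.push Λ p) M (fun j => hac (N.X j))
  let x := DerivedCategory.Q.map ψ ≫ (unitQ (EtModW.push Λ p)).app M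
  haveI hx : IsIso x := IsIso.comp_isIso' (Functor.map_isIso _ _) hu
  let t := (adj.homEquiv _ _).symm x
  have e : adj.unit.app (DerivedCategory.Q.obj N) ≫ (SiteBase.RpushD.RD (EtModW.push Λ p)).map t = x :=
    (adj.homEquiv_unit _ _ _).symm.trans (Equiv.apply_symm_apply _ _)
  haveI : IsIso t := ht
  haveI : IsIso (adj.unit.app (DerivedCategory.Q.obj N) ≫ (SiteBase.RpushD.RD (EtModW.push Λ p)).map t) := by
    rw [e]; exact hx
  exact IsIso.of_isIso_comp_right _ ((SiteBase.RpushD.RD (EtModW.push Λ p)).map t)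

/-- the affine line has fully faithful inverse image -/
theorem pullModD_affineLine (I : Type u) [Unique I] (Y : Scheme.{u}) [PreservesFiniteLimits (EtModW.pull Λ (𝔸(I; Y) ↘ Y))]
    [EtBC.HasRpushMod Λ (𝔸(I; Y) ↘ Y)]
    [∀ (ι : Type (u + 1)), PreservesColimitsOfShape (Discrete ι) (EtBC.RpushModD Λ (𝔸(I; Y) ↘ Y))]
    {n : ℕ} (hn : 0 < n) (hΛ : (n : Λ) = 0) (hY : IsUnit (n : Γ(Y, ⊤))) :
    (EtBC.pullModD Λ (𝔸(I; Y) ↘ Y)).Full ∧ (EtBC.pullModD Λ (𝔸(I; Y) ↘ Y)).Faithful := by
  have hF : ∀ M : EtModW.Mod Λ Y,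
      EtAcyc.IsLTorsion (EtAcyc.primesInvertibleOn Y) ((EtModD.forgetToAb Λ Y).obj M) := fun M U s x =>
    ⟨U, 𝟙 U, n, ⟨x, rfl⟩, ⟨hn, fun p hp hpn => ⟨hp, fun y hy => by
      have h := (hY.map (Y.presheaf.germ ⊤ y trivial).hom).map (Y.residue y).hom
      rw [map_natCast, map_natCast] at h
      obtain ⟨c, rfl⟩ := hpn
      exact h.ne_zero (by rw [Nat.cast_mul, hy, zero_mul])⟩⟩, killedBy_forgetToAb Λ Y hΛ M U _⟩
  refine pullModD_fullyFaithful Λ (𝔸(I; Y) ↘ Y) (fun M => ?_) (fun M q hq => ?_)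
  · exact (AffLineAcyc.unit_of_isAcyclicN _ (AffLineAcyc.isAcyclicN_line I Y 0) _ (hF M)).1
  · exact (AffLineAcyc.unit_of_isAcyclicN _ (AffLineAcyc.isAcyclicN_line I Y q) _ (hF M)).2 q hq le_rfl

end Groth.Agent.EtModAb
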