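import Groth.Agent.SiteBase.RpushD.Single
import Groth.Agent.EtModAb.Derived
import Groth.Agent.TriCat.RPlus
import Groth.Agent.H9Misc.PlusRB

/-!
# Derived functors on bounded below derived categories inside the unbounded ones
-/

set_option autoImplicit false
set_option linter.style.haveILetI false
set_option backward.isDefEq.respectTransparency.types false
universe u w v u'

open CategoryTheory CategoryTheory.Limits Pretriangulated

attribute [local instance] HasDerivedCategory.standard

namespace Groth.Agent.EtModAb.PlusRD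

open Groth.Agent.TriCat Groth.Agent.SiteBase.RpushD

section General

variable {A : Type u'} [Category.{v} A] [Abelian A] [HasDerivedCategory.{w} A]

open DerivedCategory

/-- bounded objects are built from their cohomology objects -/
theorem bounded_induction (P : DerivedCategory A → Prop)
    (hiso : ∀ {X Y : DerivedCategory A}, (X ≅ Y) → P X → P Y)
    (hzero : ∀ X : DerivedCategory A, IsZero X → P X)
    (hext : ∀ T ∈ distTriang (DerivedCategory A), P T.obj₁ → P T.obj₃ → P T.obj₂)
    (a : ℤ) : ∀ (n : ℕ) (X : DerivedCategory A), X.IsGE a → X.IsLE (a + n - 1) →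
      (∀ q : ℤ, a ≤ q → P ((singleFunctor A q).obj ((homologyFunctor A q).obj X))) → P X
  | 0, X, _, _, _ => hzero X (TStructure.t.isZero X (a + (0 : ℕ) - 1) a)
  | n + 1, X, hGE, hLE, hP => by
    obtain ⟨A', B', hA, hB, f, g, δ, hT⟩ :=
      TStructure.t.exists_triangle X (a + n - 1) (a + n) (by omega)
    haveI : A'.IsLE (a + n - 1) := ⟨hA⟩
    haveI : B'.IsGE (a + n) := ⟨hB⟩
    have hzA : ∀ i, a + n - 1 < i → IsZero ((homologyFunctor A i).obj A') := fun i hi =>
      isZero_of_isLE A' (a + n - 1) i hi
    have hzB : ∀ i, i < a + n → IsZero ((homologyFunctor A i).obj B') := fun i hi =>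
      isZero_of_isGE B' (a + n) i hi
    haveI : B'.IsLE (a + n) := (isLE_iff _ _).2 fun i hi =>
      (HomologySequence.exact₃ _ hT i (i + 1) rfl).isZero_of_both_zeros
        ((isZero_of_isLE X (a + (n + 1 : ℕ) - 1) i (by omega)).eq_of_src _ _)
        ((hzA (i + 1) (by omega)).eq_of_tgt _ _)
    haveI : A'.IsGE a := (isGE_iff _ _).2 fun i hi =>
      (HomologySequence.exact₁ _ hT (i - 1) i (by omega)).isZero_of_both_zeros
        ((hzB (i - 1) (by omega)).eq_of_src _ _)
        ((isZero_of_isGE X a i hi).eq_of_tgt _ _)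
    refine hext _ hT (bounded_induction P hiso hzero hext a n A' inferInstance inferInstance fun q hq => ?_) ?_
    · show P _
      by_cases hqn : q ≤ a + n - 1
      · haveI : Mono ((homologyFunctor A q).map f) :=
          (HomologySequence.exact₁ _ hT (q - 1) q (by omega)).mono_g
            ((hzB (q - 1) (by omega)).eq_of_src _ _)
        haveI : Epi ((homologyFunctor A q).map f) :=
          (HomologySequence.exact₂ _ hT q).epi_f ((hzB q (by omega)).eq_of_tgt _ _)
        haveI := isIso_of_mono_of_epi ((homologyFunctor A q).map f)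
        exact hiso ((singleFunctor A q).mapIso (asIso ((homologyFunctor A q).map f))).symm (hP q hq)
      · exact hzero _ ((singleFunctor A q).map_isZero (hzA q (by omega)))
    · show P B'
      obtain ⟨M, ⟨e⟩⟩ := exists_iso_singleFunctor_obj_of_isGE_of_isLE B' (a + n)
      haveI : Mono ((homologyFunctor A (a + n)).map g) :=
        (HomologySequence.exact₂ _ hT (a + n)).mono_g ((hzA (a + n) (by omega)).eq_of_src _ _)
      haveI : Epi ((homologyFunctor A (a + n)).map g) :=
        (HomologySequence.exact₃ _ hT (a + n) (a + n + 1) rfl).epi_f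
          ((hzA (a + n + 1) (by omega)).eq_of_tgt _ _)
      haveI := isIso_of_mono_of_epi ((homologyFunctor A (a + n)).map g)
      let i : (homologyFunctor A (a + n)).obj X ≅ M :=
        asIso ((homologyFunctor A (a + n)).map g) ≪≫ (homologyFunctor A (a + n)).mapIso e ≪≫
          (homologyFunctorFactors A (a + n)).app _ ≪≫
          HomologicalComplex.singleObjHomologySelfIso (ComplexShape.up ℤ) (a + n) M
      exact hiso ((singleFunctor A (a + n)).mapIso i ≪≫ e.symm) (hP _ (by omega))

/-- an object is bounded below as soon as nothing maps to it from the shifted objects below -/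
theorem isGE_of_single_hom (X : DerivedCategory A) (k : ℤ)
    (h : ∀ (q : ℤ), q < k → ∀ (M : A) (φ : (singleFunctor A q).obj M ⟶ X), φ = 0) : X.IsGE k := by
  let K := Q.objPreimage X
  let e : Q.obj K ≅ X := Q.objObjPreimageIso X
  refine (isGE_iff _ _).2 fun q hq => ?_
  refine IsZero.of_iso ?_ ((homologyFunctor A q).mapIso e.symm ≪≫ (homologyFunctorFactors A q).app K)
  let φ : (HomologicalComplex.single A (ComplexShape.up ℤ) q).obj (K.cycles q) ⟶ K :=
    HomologicalComplex.mkHomFromSingle (K.iCycles q) (fun j _ => K.iCycles_d q j)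
  have h0 : Q.map φ = 0 := by
    have := h q hq (K.cycles q) ((singleFunctorIsoCompQ A q).hom.app _ ≫ Q.map φ ≫ e.hom)
    refine (cancel_mono e.hom).1 ((cancel_epi ((singleFunctorIsoCompQ A q).hom.app (K.cycles q))).1 ?_)
    exact this.trans (by rw [zero_comp]; exact comp_zero.symm)
  have h1 : HomologicalComplex.homologyMap φ q = 0 := by
    have hn := (homologyFunctorFactors A q).hom.naturality φ
    simp only [Functor.comp_map, h0, Functor.map_zero, zero_comp] at hn
    exact (cancel_epi ((homologyFunctorFactors A q).hom.app _)).1 (hn.symm.trans comp_zero.symm)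
  have h2 : HomologicalComplex.cyclesMap φ q =
      (HomologicalComplex.singleObjCyclesSelfIso (ComplexShape.up ℤ) q (K.cycles q)).hom := by
    rw [← cancel_mono (K.iCycles q), HomologicalComplex.cyclesMap_i]
    simp [φ, HomologicalComplex.singleObjCyclesSelfIso_hom]
  have h3 : K.homologyπ q = 0 := by
    have := HomologicalComplex.homologyπ_naturality φ q
    rw [h1, comp_zero, h2] at this
    exact (cancel_epi _).1 (this.symm.trans comp_zero.symm)
  have hepi : Epi (HomologicalComplex.homologyπ K q) := by
    exact Limits.epi_of_isColimit_cofork (HomologicalComplex.sc K q).homologyIsCokernel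
  exact @IsZero.of_epi_eq_zero _ _ _ _ _ (HomologicalComplex.homologyπ K q) hepi h3

end General

variable {A : Type (u + 1)} [Category.{u} A] [Abelian A] [IsGrothendieckAbelian.{u} A]
  {B : Type (u + 1)} [Category.{u} B] [Abelian B]
  (G : A ⥤ B) [G.Additive]
  [(G.mapHomotopyCategory (ComplexShape.up ℤ) ⋙ DerivedCategory.Qh).HasRightDerivedFunctor
    (HomotopyCategory.quasiIso A (ComplexShape.up ℤ))]

/-- the unit of the derived functor is invertible at K-injective complexes -/
theorem isIso_unit_app (I : CochainComplex A ℤ) [I.IsKInjective] :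
    IsIso (((G.mapHomotopyCategory (ComplexShape.up ℤ) ⋙ DerivedCategory.Qh).totalRightDerivedUnit
      DerivedCategory.Qh (HomotopyCategory.quasiIso A (ComplexShape.up ℤ))).app
        ((HomotopyCategory.quotient A (ComplexShape.up ℤ)).obj I)) := by
  haveI := SiteBase.RpushD.qh_isLeftAdjoint (A := A)
  let adjQ := Adjunction.ofIsLeftAdjoint (DerivedCategory.Qh (C := A))
  let W := HomotopyCategory.quasiIso A (ComplexShape.up ℤ)
  let Φ := G.mapHomotopyCategory (ComplexShape.up ℤ) ⋙ DerivedCategory.Qh
  let α := Φ.totalRightDerivedUnit DerivedCategory.Qh W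
  haveI := isRightDerivedFunctor_of_adjunction adjQ W Φ
  let β := Functor.whiskerRight adjQ.unit Φ
  let e := Functor.rightDerivedUnique (RD G) ((DerivedCategory.Qh (C := A)).rightAdjoint ⋙ Φ) α β W
  let K := (HomotopyCategory.quotient A (ComplexShape.up ℤ)).obj I
  have he : α.app K ≫ e.hom.app _ = β.app K :=
    (Functor.rightDerivedNatTrans_fac (τ := 𝟙 Φ) (RF := RD G) (RF' := (DerivedCategory.Qh (C := A)).rightAdjoint ⋙ Φ)
      (α := α) (α' := β) (W := W) |> fun h => (congr_app h K).trans (Category.id_comp _))
  haveI := isIso_unit_of_isKInjective adjQ I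
  haveI : IsIso (β.app K) := inferInstanceAs (IsIso (Φ.map (adjQ.unit.app K)))
  haveI : IsIso (α.app K ≫ e.hom.app _) := by rw [he]; infer_instance
  exact IsIso.of_isIso_comp_right (α.app K) (e.hom.app _)

/-- the derived functor on bounded below objects is the restriction of the unbounded one -/
theorem nonempty_plus_ι_iso :
    Nonempty (G.rightDerivedFunctorPlus ⋙ DerivedCategory.Plus.ι ≅ DerivedCategory.Plus.ι ⋙ RD G) := by
  let J := (InjectiveObject.ι A).mapHomotopyCategoryPlus
  let Φ := G.mapHomotopyCategory (ComplexShape.up ℤ) ⋙ DerivedCategory.Qh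
  let α := Φ.totalRightDerivedUnit DerivedCategory.Qh (HomotopyCategory.quasiIso A (ComplexShape.up ℤ))
  let α' := Functor.whiskerLeft (J ⋙ HomotopyCategory.Plus.ι A) α
  haveI : ∀ X, IsIso (α'.app X) := fun X => by
    haveI := H9Misc.PlusRB.isKInjective_mapι X
    exact isIso_unit_app G (J.obj X).obj.as
  haveI hα : IsIso α' := NatIso.isIso_of_isIso_app _
  let e1 : TriCat.injToPlus A ⋙ G.rightDerivedFunctorPlus ⋙ DerivedCategory.Plus.ι ≅
      TriCat.injToPlus A ⋙ DerivedCategory.Plus.ι ⋙ RD G :=
    (Functor.associator _ _ _).symm ≪≫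
      Functor.isoWhiskerRight (TriCat.rightDerivedPlusIso A G) DerivedCategory.Plus.ι ≪≫ (@asIso _ _ _ _ α' hα)
  haveI : (TriCat.injToPlus A).EssSurj := inferInstance
  haveI : (TriCat.injToPlus A).IsEquivalence := { }
  let E := (TriCat.injToPlus A).asEquivalence
  exact ⟨(E.invFunIdAssoc _).symm ≪≫ Functor.isoWhiskerLeft E.inverse e1 ≪≫ E.invFunIdAssoc _⟩

/-- the derived functor kills zero objects -/
theorem isZero_RD {Y : DerivedCategory A} (hY : IsZero Y) : IsZero ((RD G).obj Y) := by
  haveI := SiteBase.RpushD.qh_isLeftAdjoint (A := A)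
  let adjQ := Adjunction.ofIsLeftAdjoint (DerivedCategory.Qh (C := A))
  obtain ⟨e⟩ := SiteBase.RpushD.nonempty_RD_iso G _ adjQ
  refine IsZero.of_iso ?_ (e.app Y).symm
  refine (G.mapHomotopyCategory (ComplexShape.up ℤ) ⋙ DerivedCategory.Qh).map_isZero ?_
  exact (IsZero.iff_id_eq_zero _).2 ((adjQ.homEquiv _ _).symm.injective (hY.eq_of_tgt _ _))

/-- the derived functor of a shifted object -/
theorem isLE_RD_single [HasInjectiveResolutions A] (N : ℕ) (M : A) (q : ℤ)
    (h : ∀ p : ℕ, N < p → IsZero ((G.rightDerived p).obj M)) :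
    ((RD G).obj ((DerivedCategory.singleFunctor A q).obj M)).IsLE (q + N) := by
  haveI : ((RD G).obj ((DerivedCategory.singleFunctor A 0).obj M)).IsLE N := by
    refine (DerivedCategory.isLE_iff _ _).2 fun i hi => ?_
    obtain ⟨p, rfl⟩ : ∃ p : ℕ, (p : ℤ) = i := ⟨i.toNat, by omega⟩
    obtain ⟨e⟩ := SiteBase.RpushD.nonempty_homology_RD_single G M p
    exact (h p (by omega)).of_iso e
  let es : (DerivedCategory.singleFunctor A q).obj M ≅ ((DerivedCategory.singleFunctor A 0).obj M)⟦-q⟧ :=
    (((DerivedCategory.singleFunctors A).shiftIso (-q) q 0 (by omega)).app M).symm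
  obtain ⟨e₀⟩ := SiteBase.RpushD.nonempty_RD_shift G ((DerivedCategory.singleFunctor A 0).obj M) (-q)
  haveI := DerivedCategory.TStructure.t.isLE_shift ((RD G).obj ((DerivedCategory.singleFunctor A 0).obj M)) N (-q) (q + N)
    (by omega)
  exact DerivedCategory.TStructure.t.isLE_of_iso (((RD G).mapIso es ≪≫ e₀).symm) (q + N)

/-- the derived functor of a bounded object, from vanishing on its cohomology objects -/
theorem isLE_RD [HasInjectiveResolutions A] (N : ℕ) (X : DerivedCategory A) (a b : ℤ) [X.IsGE a] [X.IsLE b]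
    (h : ∀ (q : ℤ) (p : ℕ), N < p → IsZero ((G.rightDerived p).obj ((DerivedCategory.homologyFunctor A q).obj X))) :
    ((RD G).obj X).IsLE (b + N) := by
  refine bounded_induction (fun Y => ((RD G).obj Y).IsLE (b + N))
    (fun e hP => haveI := hP; DerivedCategory.TStructure.t.isLE_of_iso ((RD G).mapIso e) _)
    (fun Y hY => (DerivedCategory.isLE_iff _ _).2 fun i _ =>
      (DerivedCategory.homologyFunctor B i).map_isZero (isZero_RD G hY))
    (fun T hT h₁ h₃ => ?_) a (b + 1 - a).toNat X inferInstance
    (DerivedCategory.TStructure.t.isLE_of_le X b _ (by omega)) fun q _ => ?_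
  · obtain ⟨c, hc⟩ := SiteBase.RpushD.exists_triangle G T hT
    exact DerivedCategory.TStructure.t.isLE₂ _ hc _ h₁ h₃
  · by_cases hqb : b < q
    · exact (DerivedCategory.isLE_iff _ _).2 fun i _ =>
        (DerivedCategory.homologyFunctor B i).map_isZero (isZero_RD G
          ((DerivedCategory.singleFunctor A q).map_isZero (DerivedCategory.isZero_of_isLE X b q hqb)))
    · haveI := isLE_RD_single G N _ q (h q)
      exact DerivedCategory.TStructure.t.isLE_of_le _ (q + N) _ (by omega)

/-- the derived functor restricted to bounded below objects is a left adjoint when the unbounded one is,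
if it has finite cohomological dimension -/
theorem isLeftAdjoint_plus [HasInjectiveResolutions A] (N : ℕ)
    (hN : ∀ (p : ℕ) (M : A), N < p → IsZero ((G.rightDerived p).obj M)) [(RD G).IsLeftAdjoint] :
    G.rightDerivedFunctorPlus.IsLeftAdjoint := by
  let R := (RD G).rightAdjoint
  let adj := Adjunction.ofIsLeftAdjoint (RD G)
  have hR : ∀ Y : DerivedCategory.Plus B,
      (DerivedCategory.TStructure.t (C := A)).plus (R.obj (DerivedCategory.Plus.ι.obj Y)) := fun Y => by
    obtain ⟨k, hk⟩ := Y.property
    haveI : (DerivedCategory.Plus.ι.obj Y).IsGE k := hk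
    refine ⟨k - N, isGE_of_single_hom _ _ fun q hq M φ => ?_⟩
    haveI := isLE_RD_single G N M q (fun p hp => hN p M hp)
    exact (adj.homEquiv _ _).symm.injective
      ((DerivedCategory.TStructure.t.zero _ (q + N) k (by omega)).trans
        (DerivedCategory.TStructure.t.zero _ (q + N) k (by omega)).symm)
  let R' : DerivedCategory.Plus B ⥤ DerivedCategory.Plus A :=
    ObjectProperty.lift _ (DerivedCategory.Plus.ι ⋙ R) hR
  obtain ⟨e⟩ := nonempty_plus_ι_iso G
  exact (adj.restrictFullyFaithful (Functor.FullyFaithful.ofFullyFaithful DerivedCategory.Plus.ι) (Functor.FullyFaithful.ofFullyFaithful DerivedCategory.Plus.ι)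
    (R := R') e.symm (Iso.refl _)).isLeftAdjoint

end Groth.Agent.EtModAb.PlusRD
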