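import Groth.Agent.EtModAb.Bound
import Groth.Agent.EtModAb.Derived
import Groth.Agent.Lib.PushSum12
import Groth.Agent.H26.FMod.BrownAdj
import Groth.Prelude.Def_W4c6etmotetsheavesDMod

/-!
# Unbounded direct images of sheaves of modules along proper morphisms
-/

set_option autoImplicit false
set_option linter.style.haveILetI false
set_option backward.isDefEq.respectTransparency.types false
universe u

open CategoryTheory CategoryTheory.Limits AlgebraicGeometry Opposite

attribute [local instance] HasDerivedCategory.standard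

namespace Groth.Agent.EtModAb

open Groth.Agent.TriCat

variable (Λ : Type (u + 1)) [CommRing Λ] {X S : Scheme.{u}} (f : X ⟶ S)

/-- direct images of sheaves of modules commute with sums -/
theorem preservesColimitsOfShape_push_discrete [QuasiCompact f] [QuasiSeparated f] (ι : Type (u + 1)) :
    PreservesColimitsOfShape (Discrete ι) (EtModW.push Λ f) := by
  haveI := PushSum12.preservesColimitsOfShape_push_discrete f ι
  haveI := IsGrothendieckAbelian.hasColimits (EtModW.Mod Λ X)
  haveI := IsGrothendieckAbelian.hasColimits (EtModW.Mod Λ S)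
  haveI : PreservesColimitsOfShape (Discrete ι) (EtModW.push Λ f ⋙ EtModD.forgetToAb Λ S) :=
    preservesColimitsOfShape_of_natIso (pushForgetIso Λ f).symm
  haveI : ReflectsColimitsOfShape (Discrete ι) (EtModD.forgetToAb Λ S) :=
    reflectsColimitsOfShape_of_reflectsIsomorphisms
  exact preservesColimitsOfShape_of_reflects_of_preserves (EtModW.push Λ f) (EtModD.forgetToAb Λ S)

variable [IsProper f] {n : ℕ} (hn : 0 < n) (hΛ : (n : Λ) = 0)

include hn hΛ in
/-- acyclic complexes of acyclic sheaves stay acyclic -/
theorem acyclic_push (Q : CochainComplex (EtModW.Mod Λ X) ℤ) (hQ : Q.Acyclic)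
    (hP : ∀ j, IsRightAcyclic (EtModW.push Λ f) (Q.X j)) :
    (((EtModW.push Λ f).mapHomologicalComplex (ComplexShape.up ℤ)).obj Q).Acyclic :=
  fun m => exactAt_push f Λ hn hΛ Q hQ hP m

variable [EtBC.HasRpushMod Λ f]

include hn hΛ in
/-- `Rf_*` commutes with sums for proper `f` -/
theorem preservesCoproducts_RpushModD (ι : Type (u + 1)) :
    PreservesColimitsOfShape (Discrete ι) (EtBC.RpushModD Λ f) := by
  haveI := IsGrothendieckAbelian.hasColimits (EtModW.Mod Λ X)
  haveI := IsGrothendieckAbelian.hasColimits (EtModW.Mod Λ S)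
  haveI := Abelian.hasFiniteBiproducts (C := EtModW.Mod Λ X)
  haveI := Abelian.hasFiniteBiproducts (C := EtModW.Mod Λ S)
  haveI : AB4OfSize.{u + 1} (EtModW.Mod Λ X) := AB4.of_AB5 _
  haveI : AB4OfSize.{u + 1} (EtModW.Mod Λ S) := AB4.of_AB5 _
  haveI := preservesColimitsOfShape_push_discrete Λ f ι
  exact preservesCoproducts (EtModW.push Λ f) (acyclic_push Λ f hn hΛ) ι
    (fun I hI => haveI := hI; isRightAcyclic_sigma Λ f I)

include hn hΛ in
/-- `Rf_*` has a right adjoint for proper `f` -/
theorem isLeftAdjoint_RpushModD : (EtBC.RpushModD Λ f).IsLeftAdjoint :=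
  H26.BrownAdj.isLeftAdjoint_of_preservesCoproducts (EtBC.RpushModD Λ f)
    (fun T hT => SiteBase.RpushD.exists_triangle (EtModW.push Λ f) T hT)
    (fun J => preservesCoproducts_RpushModD Λ f hn hΛ J)

end Groth.Agent.EtModAb
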