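import Groth.Agent.EtModAb.Proper
import Groth.Agent.EtModAb.BaseChange
import Groth.Agent.EtModAb.BcMap
import Groth.Agent.GabberAff13.BcIso
import Groth.Agent.S0157

/-!
# Proper base change for unbounded complexes of sheaves of modules
-/

set_option autoImplicit false
set_option linter.style.haveILetI false
set_option backward.isDefEq.respectTransparency.types false
universe u

open CategoryTheory CategoryTheory.Limits AlgebraicGeometry Opposite

attribute [local instance] HasDerivedCategory.standard

namespace Groth.Agent.EtModAb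

open Groth.Agent.TriCat

variable (Λ : Type (u + 1)) [CommRing Λ] {X S X' S' : Scheme.{u}} (f : X ⟶ S) (g : S' ⟶ S) (f' : X' ⟶ S')
  (g' : X' ⟶ X) (h : IsPullback g' f' f g) [IsProper f] {n : ℕ} (hn : 0 < n) (hΛ : (n : Λ) = 0)

include h hn hΛ in
/-- inverse images of injective sheaves are acyclic for the base changed proper map -/
theorem isRightAcyclic_pull (M : EtModW.Mod Λ X) [Injective M] :
    IsRightAcyclic (EtModW.push Λ f') ((EtModW.pull Λ g').obj M) := by
  haveI : IsProper f' := MorphismProperty.of_isPullback h ‹IsProper f›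
  refine (isRightAcyclic_iff Λ f' _).2 fun q hq => ?_
  obtain ⟨p, rfl⟩ := Nat.exists_eq_succ_of_ne_zero hq.ne'
  haveI := EtFound.pull_preservesFiniteLimits g
  haveI := EtFound.pull_preservesFiniteLimits g'
  let F := (EtModD.forgetToAb Λ X).obj M
  have hF : EtCoh.IsTorsion F := isTorsion_of_killedBy' hn (killedBy_forgetToAb Λ X hΛ M)
  haveI := GabberAff13.isIso_bcQ f g f' g' h (p + 1) F hF
  haveI : (EtCoh.pull g).Additive := (EtCoh.pullPushAdj g).left_adjoint_additive
  haveI := isIso_pullForget Λ g' M
  exact ((EtCoh.pull g).map_isZero (isZero_rpush_forgetToAb_injective Λ f M p)).of_iso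
    (((EtCoh.push f').rightDerived (p + 1)).mapIso (asIso ((pullForget Λ g').app M)).symm ≪≫
      (asIso (EtBC.bcQ f g f' g' h.w (p + 1) F)).symm)

include h hn hΛ in
/-- proper base change in the unbounded derived category -/
theorem isIso_bcMapModD_proper
    [PreservesFiniteLimits (EtModW.pull Λ g)] [PreservesFiniteLimits (EtModW.pull Λ g')]
    [EtBC.HasRpushMod Λ f] [EtBC.HasRpushMod Λ f'] [EtBC.HasRpushMod Λ g]
    (adj : EtBC.pullModD Λ g ⊣ EtBC.RpushModD Λ g) (K : EtModD.D Λ X) :
    IsIso (EtBC.bcMapModD Λ f g f' g' h.w adj K) := by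
  haveI : IsProper f' := MorphismProperty.of_isPullback h ‹IsProper f›
  refine isIso_bcMapModD Λ f g f' g' h.w (fun M _ => ?_) (fun I hI => ?_) adj K
  · exact isIso_baseChange0Mod Λ f g f' g' h.w M (S0157.result f f' g' g h _)
  · refine isIso_unit (EtModW.push Λ f') (acyclic_push Λ f' hn hΛ) _ fun j => ?_
    haveI := hI j
    exact isRightAcyclic_pull Λ f g f' g' h hn hΛ (I.X j)

end Groth.Agent.EtModAb
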