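import Groth.Agent.EtModAb.PlusRD
import Groth.Agent.EtModAb.ExtZeroMod
import Groth.Agent.EtModAb.Proper
import Groth.Agent.SiteBase.RpushD.Devissage
import Groth.Agent.S3389
import Groth.Prelude.Def_PBC

/-!
# `Rf_!` on bounded below derived categories: bounds and adjointness
-/

set_option autoImplicit false
set_option linter.style.haveILetI false
set_option backward.isDefEq.respectTransparency.types false
universe u

open CategoryTheory CategoryTheory.Limits AlgebraicGeometry Opposite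

attribute [local instance] HasDerivedCategory.standard

namespace Groth.Agent.EtModAb.ShriekPlus

open Groth.Agent.EtFound

variable (Λ : Type (u + 1)) [CommRing Λ]

/-- unbounded direct images exist -/
theorem hasRpushMod {X S : Scheme.{u}} (f : X ⟶ S) : EtBC.HasRpushMod Λ f := by
  haveI := SiteBase.RpushD.qh_isLeftAdjoint (A := EtModW.Mod Λ X)
  let adjQ := Adjunction.ofIsLeftAdjoint (DerivedCategory.Qh (C := EtModW.Mod Λ X))
  let W := HomotopyCategory.quasiIso (EtModW.Mod Λ X) (ComplexShape.up ℤ)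
  haveI := TriCat.isRightDerivedFunctor_of_adjunction adjQ W (EtBC.pushModKh Λ f)
  exact Functor.HasRightDerivedFunctor.mk' (L := DerivedCategory.Qh) (W := W)
    (RF := DerivedCategory.Qh.rightAdjoint ⋙ EtBC.pushModKh Λ f)
    (Functor.whiskerRight adjQ.unit (EtBC.pushModKh Λ f))

/-- direct images of modules with small support -/
theorem isZero_rightDerived_push {X S : Scheme.{u}} (f : X ⟶ S) [IsProper f] {n : ℕ} (hn : 0 < n)
    (hΛ : (n : Λ) = 0) (N : ℕ) (M : EtModW.Mod Λ X)
    (hs : ∀ x ∈ EtPBC.supp ((EtModD.forgetToAb Λ X).obj M), FibDim.rd f x ≤ N) (p : ℕ) (hp : 2 * N < p) :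
    IsZero (((EtModW.push Λ f).rightDerived p).obj M) := by
  refine isZero_of_forgetToAb Λ ?_
  obtain ⟨e⟩ := nonempty_forget_rightDerived Λ f p M
  exact (CdFin.isZero_Rpush_of_supp f N _ (isTorsion_of_killedBy' hn (killedBy_forgetToAb Λ X hΛ M)) hs p hp).of_iso e

/-- proper direct images of modules have finite dimension over a quasi-compact base -/
theorem exists_bound {X S : Scheme.{u}} [CompactSpace ↥S] (f : X ⟶ S) [IsProper f] {n : ℕ} (hn : 0 < n)
    (hΛ : (n : Λ) = 0) :
    ∃ N : ℕ, ∀ (p : ℕ) (M : EtModW.Mod Λ X), N < p → IsZero (((EtModW.push Λ f).rightDerived p).obj M) := by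
  obtain ⟨d, hd⟩ := S3389.result f
  exact ⟨2 * d, fun p M hp => isZero_rightDerived_push Λ f hn hΛ d M
    (fun x _ => (FibDim.topologicalKrullDim_fiber_le_iff f _ d).1 (hd _) x rfl) p hp⟩

variable {X S : Scheme.{u}} {f : X ⟶ S} (c : DEt.Compactification f)

/-- `Rf_!` is a left adjoint on `D⁺` -/
theorem isLeftAdjoint [CompactSpace ↥S] {n : ℕ} (hn : 0 < n) (hΛ : (n : Λ) = 0) :
    (EtDl.RshriekPlus Λ c).IsLeftAdjoint := by
  haveI := c.isOpenImmersion
  haveI := c.isProper
  haveI := hasRpushMod Λ c.fbar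
  haveI : (EtBC.RpushModD Λ c.fbar).IsLeftAdjoint := isLeftAdjoint_RpushModD Λ c.fbar hn hΛ
  obtain ⟨N, hN⟩ := exists_bound Λ c.fbar hn hΛ
  haveI h1 : (EtDl.pushPlus Λ c.fbar).IsLeftAdjoint := PlusRD.isLeftAdjoint_plus (EtModW.push Λ c.fbar) N hN
  haveI := extZeroMod_preservesFiniteLimits Λ c.j
  haveI : PreservesFiniteColimits (EtDl.extZeroMod Λ c.j) :=
    haveI : PreservesColimitsOfSize.{0, 0} (EtDl.extZeroMod Λ c.j) :=
      (EtDl.extZeroModAdj Λ c.j).leftAdjoint_preservesColimits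
    PreservesColimitsOfSize.preservesFiniteColimits _
  obtain ⟨adj⟩ := H9Misc.PlusRB.nonempty_adj (EtDl.extZeroModAdj Λ c.j)
  haveI h2 : (EtDl.extZeroPlus Λ c.j).IsLeftAdjoint := adj.isLeftAdjoint
  exact ((Adjunction.ofIsLeftAdjoint (EtDl.extZeroPlus Λ c.j)).comp
    (Adjunction.ofIsLeftAdjoint (EtDl.pushPlus Λ c.fbar))).isLeftAdjoint

section

variable {A : Type (u + 1)} [Category.{u} A] [Abelian A] [IsGrothendieckAbelian.{u} A]
  {B : Type (u + 1)} [Category.{u} B] [Abelian B] (F : A ⥤ B) [F.Additive]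
  [PreservesFiniteLimits F] [PreservesFiniteColimits F]

/-- the derived functor of an exact functor on bounded below objects -/
theorem nonempty_ι_exact (K : DerivedCategory.Plus A) :
    Nonempty (DerivedCategory.Plus.ι.obj (F.rightDerivedFunctorPlus.obj K) ≅
      F.mapDerivedCategory.obj (DerivedCategory.Plus.ι.obj K)) := by
  haveI : IsIso F.rightDerivedFunctorPlusUnit :=
    Functor.isIso_of_isRightDerivedFunctor_of_inverts (W := HomotopyCategory.Plus.quasiIso A) _ _
      H9Misc.PlusRB.inverts_of_exact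
  let K' := (DerivedCategory.Plus.Qh (C := A)).objPreimage K
  let e : DerivedCategory.Plus.Qh.obj K' ≅ K := DerivedCategory.Plus.Qh.objObjPreimageIso K
  exact ⟨DerivedCategory.Plus.ι.mapIso (F.rightDerivedFunctorPlus.mapIso e.symm ≪≫
      ((asIso F.rightDerivedFunctorPlusUnit).app K').symm) ≪≫
    ((F.mapDerivedCategoryFactorsh).app K'.obj).symm ≪≫
    F.mapDerivedCategory.mapIso (DerivedCategory.Plus.ι.mapIso e)⟩

end

/-- amplitude of `Rf_!` -/
theorem amplitude (N : ℕ) {n : ℕ} (hn : 0 < n) (hΛ : (n : Λ) = 0)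
    (hdim : ∀ x : X, FibDim.rd (haveI := c.isProper; c.fbar) (c.j x) ≤ N)
    (K : DerivedCategory.Plus (EtModW.Mod Λ X)) (a b : ℤ) (ha : K.IsGE a) (hb : K.IsLE b) :
    ((EtDl.RshriekPlus Λ c).obj K).IsLE (b + 2 * (N : ℤ)) ∧ ((EtDl.RshriekPlus Λ c).obj K).IsGE a := by
  haveI := c.isOpenImmersion
  haveI := c.isProper
  haveI := hasRpushMod Λ c.fbar
  haveI := extZeroMod_preservesFiniteLimits Λ c.j
  haveI : PreservesFiniteColimits (EtDl.extZeroMod Λ c.j) :=
    haveI : PreservesColimitsOfSize.{0, 0} (EtDl.extZeroMod Λ c.j) :=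
      (EtDl.extZeroModAdj Λ c.j).leftAdjoint_preservesColimits
    PreservesColimitsOfSize.preservesFiniteColimits _
  obtain ⟨ep⟩ := PlusRD.nonempty_plus_ι_iso (EtModW.push Λ c.fbar)
  obtain ⟨ej⟩ := nonempty_ι_exact (EtDl.extZeroMod Λ c.j) K
  let Y := (EtDl.extZeroMod Λ c.j).mapDerivedCategory.obj (DerivedCategory.Plus.ι.obj K)
  let e : DerivedCategory.Plus.ι.obj ((EtDl.RshriekPlus Λ c).obj K) ≅ (EtBC.RpushModD Λ c.fbar).obj Y :=
    ep.app _ ≪≫ (EtBC.RpushModD Λ c.fbar).mapIso ej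
  haveI : Y.IsGE a := by
    refine (DerivedCategory.isGE_iff _ _).2 fun i hi => ?_
    obtain ⟨eh⟩ := SiteBase.RpushD.nonempty_homology_mapDerived (EtDl.extZeroMod Λ c.j) (DerivedCategory.Plus.ι.obj K) i
    exact ((EtDl.extZeroMod Λ c.j).map_isZero (DerivedCategory.Plus.isZero_homology_of_isGE K a i hi)).of_iso eh
  haveI : Y.IsLE b := by
    refine (DerivedCategory.isLE_iff _ _).2 fun i hi => ?_
    obtain ⟨eh⟩ := SiteBase.RpushD.nonempty_homology_mapDerived (EtDl.extZeroMod Λ c.j) (DerivedCategory.Plus.ι.obj K) i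
    exact ((EtDl.extZeroMod Λ c.j).map_isZero (DerivedCategory.Plus.isZero_homology_of_isLE K b i hi)).of_iso eh
  refine ⟨?_, ?_⟩
  · haveI := PlusRD.isLE_RD (EtModW.push Λ c.fbar) (2 * N) Y a b fun q p hp => by
      obtain ⟨eh⟩ := SiteBase.RpushD.nonempty_homology_mapDerived (EtDl.extZeroMod Λ c.j)
        (DerivedCategory.Plus.ι.obj K) q
      refine IsZero.of_iso ?_ (((EtModW.push Λ c.fbar).rightDerived p).mapIso eh)
      refine isZero_rightDerived_push Λ c.fbar hn hΛ N _ ?_ p hp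
      rintro x ⟨Ω, _, _, ξ, hr, hne⟩
      have hx : ξ.base (default : Spec (CommRingCat.of Ω)) = x := Set.mem_singleton_iff.1 (hr ▸ ⟨_, rfl⟩)
      obtain ⟨u, hu⟩ : ξ.base (default : Spec (CommRingCat.of Ω)) ∈ Set.range c.j.base :=
        by_contra fun h => hne (isZero_stalk_forget_extZero Λ c.j ξ h _)
      rw [← hx, ← hu]
      exact hdim u
    refine (DerivedCategory.Plus.isLE_ι_obj_iff _ _).1 ?_
    push_cast at *
    exact DerivedCategory.TStructure.t.isLE_of_iso e.symm _
  · haveI := SiteBase.RpushD.isGE_RD (EtModW.push Λ c.fbar) Y a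
    refine (DerivedCategory.Plus.isGE_ι_obj_iff _ _).1 ?_
    exact DerivedCategory.TStructure.t.isGE_of_iso e.symm _

/-- relative degrees on the open part of a compactification -/
theorem rd_le (d : ℕ) [LocallyOfFiniteType f] (hdim : ∀ s : S, topologicalKrullDim ↥(f.fiber s) ≤ d) (x : X) :
    FibDim.rd (haveI := c.isProper; c.fbar) (c.j x) ≤ d := by
  haveI := c.isOpenImmersion
  haveI := c.isProper
  obtain ⟨Xbar, j, fbar, _, _, rfl⟩ := c
  have h1 : FibDim.rd (j ≫ fbar) x ≤ d :=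
    (FibDim.topologicalKrullDim_fiber_le_iff (j ≫ fbar) _ d).1 (hdim _) x rfl
  rw [FibDim.rd_comp] at h1
  exact le_of_add_le_left h1

/-- nothing maps from a bounded object above the injective dimension -/
theorem hom_eq_zero {A : Type (u + 1)} [Category.{u} A] [Abelian A] (L : DerivedCategory.Plus A) (m : ℤ)
    (hL : ∀ (F : A) (i : ℤ), m < i →
      Subsingleton ((DerivedCategory.Plus.singleFunctor A 0).obj F ⟶ L⟦i⟧))
    (K : DerivedCategory A) (a b : ℤ) [K.IsGE a] [K.IsLE b] (hma : m < a) :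
    ∀ φ : K ⟶ DerivedCategory.Plus.ι.obj L, φ = 0 := by
  refine PlusRD.bounded_induction (fun Y => ∀ φ : Y ⟶ DerivedCategory.Plus.ι.obj L, φ = 0)
    (fun e h φ => by rw [← cancel_epi e.hom, comp_zero]; exact h _) (fun Y hY φ => hY.eq_of_src _ _)
    (fun T hT h₁ h₃ φ => ?_) a (b + 1 - a).toNat K inferInstance
    (DerivedCategory.TStructure.t.isLE_of_le K b _ (by omega)) fun q hq φ => ?_
  · obtain ⟨g, rfl⟩ := Pretriangulated.Triangle.yoneda_exact₂ T hT φ (h₁ _)
    rw [h₃ g, comp_zero]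
  · let M := (DerivedCategory.homologyFunctor A q).obj K
    let es : (DerivedCategory.singleFunctor A 0).obj M ≅ ((DerivedCategory.singleFunctor A q).obj M)⟦q⟧ :=
      (((DerivedCategory.singleFunctors A).shiftIso q 0 q (by omega)).app M).symm
    let ψ : DerivedCategory.Plus.ι.obj ((DerivedCategory.Plus.singleFunctor A 0).obj M) ⟶
        DerivedCategory.Plus.ι.obj (L⟦q⟧) :=
      es.hom ≫ (shiftFunctor _ q).map φ ≫ ((DerivedCategory.Plus.ι.commShiftIso q).app L).inv
    haveI := hL M q (by omega)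
    have h0 : ψ = 0 := by
      rw [← DerivedCategory.Plus.ι.map_preimage ψ, Subsingleton.elim (DerivedCategory.Plus.ι.preimage ψ) 0,
        Functor.map_zero]
    refine (shiftFunctor (DerivedCategory A) q).map_injective ?_
    rw [Functor.map_zero]
    refine (cancel_mono (((DerivedCategory.Plus.ι.commShiftIso q).app L).inv)).1 ((cancel_epi es.hom).1 ?_)
    exact h0.trans (by rw [zero_comp]; exact comp_zero.symm)

end Groth.Agent.EtModAb.ShriekPlus
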