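import Groth.Agent.EtModAb.Proper
import Groth.Agent.EtModAb.BaseChange
import Groth.Agent.EtModAb.BcMap
import Groth.Agent.EtModAb.UnitSums
import Groth.Agent.S0162

/-!
# Smooth base change for unbounded complexes of sheaves of modules
-/

set_option autoImplicit false
set_option linter.style.haveILetI false
set_option backward.isDefEq.respectTransparency.types false
universe u

open CategoryTheory CategoryTheory.Limits AlgebraicGeometry Opposite

attribute [local instance] HasDerivedCategory.standard

namespace Groth.Agent.EtModAb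

open Groth.Agent.TriCat

variable (Λ : Type (u + 1)) [CommRing Λ] {X S X' S' : Scheme.{u}} (f : X ⟶ S) (g : S' ⟶ S) (f' : X' ⟶ S')
  (g' : X' ⟶ X) (h : IsPullback g' f' f g) [QuasiCompact f] [QuasiSeparated f] [Smooth g]
  {n : ℕ} (hn : 0 < n) (hΛ : (n : Λ) = 0) (hS : IsUnit (n : Γ(S, ⊤)))

include hΛ hS in
/-- modules killed by an invertible integer have invertible torsion -/
theorem isTorsionInvertibleOn_forgetToAb (M : EtModW.Mod Λ X) :
    EtPBC.IsTorsionInvertibleOn S ((EtModD.forgetToAb Λ X).obj M) := fun U s x =>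
  ⟨U, 𝟙 U, n, ⟨x, rfl⟩, hS, killedBy_forgetToAb Λ X hΛ M U _⟩

include h hn hΛ hS in
/-- inverse images of injective sheaves are acyclic for the base changed map -/
theorem isRightAcyclic_pull_smooth (M : EtModW.Mod Λ X) [Injective M] :
    IsRightAcyclic (EtModW.push Λ f') ((EtModW.pull Λ g').obj M) := by
  refine (isRightAcyclic_iff Λ f' _).2 fun q hq => ?_
  obtain ⟨p, rfl⟩ := Nat.exists_eq_succ_of_ne_zero hq.ne'
  obtain ⟨⟨e⟩, -⟩ := S0162.result g f f' g' h _ (isTorsionInvertibleOn_forgetToAb Λ hΛ hS M) (p + 1)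
  haveI := isIso_pullForget Λ g' M
  haveI : (EtCoh.pull g).Additive := (EtCoh.pullPushAdj g).left_adjoint_additive
  exact ((EtCoh.pull g).map_isZero (isZero_rpush_forgetToAb_injective Λ f M p)).of_iso
    (((EtCoh.push f').rightDerived (p + 1)).mapIso (asIso ((pullForget Λ g').app M)).symm ≪≫ e.symm)

include h hn hΛ hS in
/-- smooth base change in the unbounded derived category -/
theorem isIso_bcMapModD_smooth
    [PreservesFiniteLimits (EtModW.pull Λ g)] [PreservesFiniteLimits (EtModW.pull Λ g')]
    [EtBC.HasRpushMod Λ f] [EtBC.HasRpushMod Λ f'] [EtBC.HasRpushMod Λ g]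
    [∀ (ι : Type (u + 1)), PreservesColimitsOfShape (Discrete ι) (EtBC.RpushModD Λ f')]
    (adj : EtBC.pullModD Λ g ⊣ EtBC.RpushModD Λ g) (K : EtModD.D Λ X) :
    IsIso (EtBC.bcMapModD Λ f g f' g' h.w adj K) := by
  haveI : QuasiCompact f' := MorphismProperty.of_isPullback h ‹QuasiCompact f›
  haveI : QuasiSeparated f' := MorphismProperty.of_isPullback h ‹QuasiSeparated f›
  refine isIso_bcMapModD Λ f g f' g' h.w (fun M _ => ?_) (fun I hI => ?_) adj K
  · exact isIso_baseChange0Mod Λ f g f' g' h.w M
      (S0162.result g f f' g' h _ (isTorsionInvertibleOn_forgetToAb Λ hΛ hS M) 0).2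
  · haveI : PreservesColimitsOfShape (Discrete (ULift.{u + 1} ℕ)) (EtModW.push Λ f') :=
      preservesColimitsOfShape_push_discrete Λ f' _
    haveI : PreservesColimitsOfShape (Discrete ℕ) (EtModW.push Λ f') :=
      preservesColimitsOfShape_of_equiv (Discrete.equivalence Equiv.ulift.{u + 1}) _
    haveI : PreservesColimitsOfShape (Discrete ℕ) (SiteBase.RpushD.RD (EtModW.push Λ f')) :=
      haveI : PreservesColimitsOfShape (Discrete (ULift.{u + 1} ℕ)) (EtBC.RpushModD Λ f') := inferInstance
      preservesColimitsOfShape_of_equiv (Discrete.equivalence Equiv.ulift.{u + 1}) _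
    refine isIso_unit_of_sums (EtModW.push Λ f') _ fun j => ?_
    haveI := hI j
    exact isRightAcyclic_pull_smooth Λ f g f' g' h hn hΛ hS (I.X j)

end Groth.Agent.EtModAb
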